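import Cfsg.Agent.PTT.Defs
import Cfsg.Agent.PTT.Cnt
import Cfsg.Agent.S1545
import Cfsg.Agent.TE.Tools

set_option autoImplicit false
set_option linter.unusedSectionVars false

namespace Cfsg.Agent.PTT

open Subgroup H69 H59

variable {G : Type*} [Group G] [Finite G] {p : ℕ}

theorem frob8 (h : Ord 7 G) [IsSimpleGroup G] (t : Thin G) {x y : G} (hx : orderOf x = 7)
    (hy : orderOf y = 3) (hxy : y * x * y⁻¹ = x ^ 2) {E : Subgroup G}
    (hE : IsElementaryAbelian 2 E) (h1 : x ∈ normalizer (E : Set G))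
    (h2 : y ∈ normalizer (E : Set G)) : Nat.card E ≤ 8 := by
  have : Fact (Nat.Prime 2) := ⟨Nat.prime_two⟩
  have cx : Nat.card (zpowers x) = 7 := by rw [Nat.card_zpowers, hx]
  have cy : Nat.card (zpowers y) = 3 := by rw [Nat.card_zpowers, hy]
  have hn : zpowers y ≤ normalizer (zpowers x : Set G) :=
    zpowers_le.2 (H42.mem_normalizer_of_conj_mem (by
      rintro _ ⟨n, rfl⟩
      show y * x ^ n * y⁻¹ ∈ _
      rw [← conj_zpow, hxy]
      exact zpow_mem (pow_mem (mem_zpowers x) 2) n))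
  have ho : Odd (Nat.card (zpowers x ⊔ zpowers y : Subgroup G)) := by
    rw [sup_comm]
    exact TE.odd_sup (by rw [cy]; decide) (by rw [cx]; decide) hn
  have e2 := isPGroup_of_isElementaryAbelian hE
  obtain ⟨n, en⟩ := IsPGroup.iff_card.1 e2
  have hc : (Nat.card E).Coprime (Nat.card (zpowers x ⊔ zpowers y : Subgroup G)) := by
    rw [en]; exact (Nat.coprime_two_left.2 ho).pow_left n
  have hs : Group.IsSolvable E := by have := e2.isNilpotent; infer_instance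
  have key := S1545.result (zpowers x) (zpowers y) E
    (fun e => by rw [e, card_bot] at cx; omega) (fun e => by rw [e, card_bot] at cy; omega)
    (inf_eq_bot_of_coprime (by rw [cx, cy]; decide))
    (fun e he u hu => H42.conj_mem_of_mem_normalizer (hn he) hu)
    (fun e he e1 u hu c => by
      by_contra u1
      have h7 := orderOf_dvd_of_mem_zpowers hu
      rw [hx, Nat.dvd_prime (by norm_num), orderOf_eq_one_iff] at h7
      refine e1 (h.fpf (h7.resolve_left u1) c fun d => ?_)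
      have := d.trans (orderOf_dvd_of_mem_zpowers he)
      rw [hy] at this; omega)
    (fun g hg e he => H42.conj_mem_of_mem_normalizer (sup_le (zpowers_le.2 h1) (zpowers_le.2 h2) hg) he)
    (inf_eq_bot_of_coprime hc) hs hc
  have k1 : E ⊓ centralizer (zpowers x : Set G) = ⊥ := eq_bot_iff.2 fun e he =>
    h.fpf hx (he.2 x (mem_zpowers x)).symm fun d => by
      have := d.trans (orderOf_dvd_of_pow_eq_one ((isElementaryAbelian_iff.1 hE).2 e he.1))
      omega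
  have k2 := t.cen y (E ⊓ centralizer (zpowers y : Set G)) hy (isElementaryAbelian_of_le hE inf_le_left)
    fun e he => mem_centralizer_singleton_iff.2 (he.2 y (mem_zpowers y)).symm
  rw [k1, card_bot, mul_one, cy] at key
  calc Nat.card E ≤ _ := Nat.le_mul_of_pos_left _ (pow_pos Nat.card_pos 3)
    _ = _ := key
    _ ≤ 2 ^ 3 := Nat.pow_le_pow_left k2 3

theorem frob_arith {k : ℕ} (hp : p = 7 ∨ p = 13 ∨ p = 17) (h1 : 2 ^ k % 9 = 2) (h2 : 2 ^ k % p = 1) : False := by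
  have e : ∀ n, 2 ^ 24 % n = 1 → 2 ^ k % n = 2 ^ (k % 24) % n := fun n hn => by
    conv_lhs => rw [← Nat.div_add_mod k 24, pow_add, pow_mul, Nat.mul_mod, Nat.pow_mod, hn, one_pow,
      ← Nat.mul_mod, one_mul]
  rw [e 9 (by norm_num)] at h1
  have := Nat.mod_lt k (show 0 < 24 by norm_num)
  rcases hp with rfl | rfl | rfl <;> rw [e _ (by norm_num)] at h2 <;> generalize k % 24 = r at * <;>
    interval_cases r <;> omega

theorem fpf3 (h : Ord p G) [IsSimpleGroup G] (t : Thin G) {H : Subgroup G} (hO : O2 H ≠ ⊥)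
    (h9 : 9 ∣ Nat.card H) (hp : p ∣ Nat.card H) {y : G} (hy : y ∈ H) (h3 : orderOf y = 3) :
    O2 H ⊓ C1 y = ⊥ := by
  have : Fact (Nat.Prime 2) := ⟨Nat.prime_two⟩
  have := Fact.mk h.prime
  have o2 : IsPGroup 2 (O2 H) := isPGroup_pCoreOf H
  have nO : H ≤ normalizer (O2 H : Set G) := le_normalizer_pCoreOf H
  have OH : O2 H ≤ H := pCoreOf_le H
  obtain ⟨B, ⟨b1, b2, b3⟩, bm⟩ := Set.Finite.exists_maximal (Set.toFinite
    {B : Subgroup G | B ≤ O2 H ∧ H ≤ normalizer (B : Set G) ∧ B ⊓ C1 y = ⊥})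
    ⟨⊥, bot_le, le_normalizer_of_normal, by simp⟩
  by_contra hne
  have nB : ∀ g ∈ H, ∀ b ∈ B, g * b * g⁻¹ ∈ B := fun g hg b hb =>
    H42.conj_mem_of_mem_normalizer (b2 hg) hb
  have cO : ∀ g ∈ H, ∀ b ∈ O2 H, g * b * g⁻¹ ∈ O2 H := fun g hg b hb =>
    H42.conj_mem_of_mem_normalizer (nO hg) hb
  let Z : Subgroup G :=
    { carrier := {a | a ∈ O2 H ∧ ∀ r ∈ O2 H, r * a * r⁻¹ * a⁻¹ ∈ B}
      one_mem' := ⟨one_mem _, fun r _ => by simp⟩
      mul_mem' := fun {a b} ha hb => ⟨mul_mem ha.1 hb.1, fun r hr => by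
        have := mul_mem (ha.2 r hr) (nB a (OH ha.1) _ (hb.2 r hr))
        convert this using 1; group⟩
      inv_mem' := fun {a} ha => ⟨inv_mem ha.1, fun r hr => by
        have := nB a⁻¹ (inv_mem (OH ha.1)) _ (inv_mem (ha.2 r hr))
        convert this using 1; group⟩ }
  let A : Subgroup G :=
    { carrier := {a | a ∈ Z ∧ a ^ 2 ∈ B}
      one_mem' := ⟨one_mem _, by simp⟩
      mul_mem' := fun {a b} ha hb => ⟨mul_mem ha.1 hb.1, by
        have := mul_mem (mul_mem (nB a (OH ha.1.1) _ (ha.1.2 b hb.1.1)) ha.2) hb.2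
        convert this using 1
        simp only [pow_two]; group⟩
      inv_mem' := fun {a} ha => ⟨inv_mem ha.1, by rw [inv_pow]; exact inv_mem ha.2⟩ }
  have AO : A ≤ O2 H := fun a ha => ha.1.1
  have nA : H ≤ normalizer (A : Set G) := fun g hg => H42.mem_normalizer_of_conj_mem fun a ha =>
    ⟨⟨cO g hg a ha.1.1, fun r hr => by
      have := nB g hg _ (ha.1.2 _ (cO g⁻¹ (inv_mem hg) r hr))
      convert this using 1; group⟩, by rw [conj_pow]; exact nB g hg _ ha.2⟩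
  have BA : B ≤ A := fun b hb => ⟨⟨b1 hb, fun r hr => mul_mem (nB r (OH hr) b hb) (inv_mem hb)⟩, pow_mem hb 2⟩
  obtain ⟨u, u1, u2, u3⟩ := exists_fix_mod o2 o2 (lt_of_le_of_ne b1 fun e => hne (e ▸ b3))
    le_normalizer (OH.trans b2) (OH.trans b2)
  have uZ : u ∈ Z := ⟨u1, u3⟩
  have hA : A ⊓ C1 y ≠ ⊥ := fun e => by
    have AB : A ≤ B := bm ⟨AO, nA, e⟩ BA
    obtain ⟨n, hn⟩ := o2 ⟨u, u1⟩
    replace hn : u ^ 2 ^ n ∈ B := by rw [show u ^ 2 ^ n = 1 from congrArg Subtype.val hn]; exact one_mem _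
    induction n with
    | zero => exact u2 (by simpa using hn)
    | succ n ih => exact ih (AB ⟨pow_mem uZ _, by rwa [← pow_mul, ← pow_succ]⟩)
  have sq : ∀ a ∈ A ⊓ C1 y, a ^ 2 = 1 := fun a ha =>
    mem_bot.1 (b3 ▸ (⟨ha.1.2, pow_mem ha.2 2⟩ : a ^ 2 ∈ B ⊓ C1 y))
  have iv : ∀ a ∈ A ⊓ C1 y, a⁻¹ = a := fun a ha => inv_eq_of_mul_eq_one_right (by rw [← pow_two, sq a ha])
  have c2 := t.cen y (A ⊓ C1 y) h3 (isElementaryAbelian_iff.2 ⟨fun a ha b hb => by
    rw [← iv _ (mul_mem ha hb), mul_inv_rev, iv a ha, iv b hb], sq⟩) inf_le_right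
  have c1 := (one_lt_card_iff_ne_bot _).2 hA
  obtain ⟨g, hg, g9, rfl⟩ := t.nine o2 hO nO h9 hy h3
  have m9 := card_mod_nine g9 (nA hg)
  obtain ⟨x, hx⟩ := exists_prime_orderOf_dvd_card' p hp
  have mp := h.card_mod ((orderOf_coe x).trans hx) (o2.to_le AO) (nA x.2)
  obtain ⟨k, ek⟩ := IsPGroup.iff_card.1 (o2.to_le AO)
  rw [show Nat.card ↥(A ⊓ C1 (g ^ 3)) = 2 by omega, ek] at m9
  exact frob_arith h.1 m9 (ek ▸ mp)

end Cfsg.Agent.PTT
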