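import Cfsg.Agent.PTT.Defs
import Cfsg.Agent.PTT.Frob
import Cfsg.Agent.PTT.Cnt

/-! The action of `N(V)` on `V ≅ 2³` (notes/PTT.md, L3a). -/

set_option autoImplicit false
set_option linter.unusedSectionVars false

namespace Cfsg.Agent.PTT

open Subgroup H69 H59

variable {G : Type*} [Group G] [Finite G] {p : ℕ}

variable {V : Subgroup G} {z : G}

theorem L3.trans (l : L3 V) (h : Ord 7 G) [IsSimpleGroup G] (hz : z ∈ V) (hz1 : z ≠ 1) {v : G}
    (hv : v ∈ V) (hv1 : v ≠ 1) : ∃ n ∈ normalizer (V : Set G), n * z * n⁻¹ = v := by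
  obtain ⟨x, xN, -, -, x7, -⟩ := l.frob
  have zN : zpowers x ≤ normalizer (V : Set G) := zpowers_le.2 xN
  let F : Option (zpowers x) → V := fun o => o.elim 1 fun g =>
    ⟨g * z * g⁻¹, conj_mem_of_mem_normalizer (zN g.2) hz⟩
  have n1 : ∀ g : G, g * z * g⁻¹ ≠ 1 := fun g e => hz1 (conj_eq_one_iff.1 e)
  have inj : Function.Injective F := by
    rintro (_ | g) (_ | g') e
    · rfl
    · exact absurd (congrArg Subtype.val e).symm (n1 _)
    · exact absurd (congrArg Subtype.val e) (n1 _)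
    · have e' : (g : G) * z * g⁻¹ = g' * z * g'⁻¹ := congrArg Subtype.val e
      by_contra n
      have o := orderOf_dvd_of_mem_zpowers (mul_mem (inv_mem g'.2) g.2)
      rw [x7] at o
      rcases (Nat.dvd_prime (by norm_num)).1 o with o | o
      · exact n (congrArg some (Subtype.ext (inv_mul_eq_one.1 (orderOf_eq_one_iff.1 o)).symm))
      · refine hz1 (h.fpf o ?_ fun d => ?_)
        · calc z * ((g' : G)⁻¹ * g) = (g' : G)⁻¹ * (g' * z * g'⁻¹) * g := by simp [mul_assoc]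
            _ = _ := by rw [← e']; simp [mul_assoc]
        · have := Nat.le_of_dvd two_pos
            (d.trans (orderOf_dvd_of_pow_eq_one ((isElementaryAbelian_iff.1 l.ea).2 z hz)))
          omega
  obtain ⟨o, e⟩ := (inj.bijective_of_nat_card_le (by
    rw [Finite.card_option, Nat.card_zpowers, x7, l.card])).2 ⟨v, hv⟩
  rcases o with _ | g
  · exact absurd (congrArg Subtype.val e).symm hv1
  · exact ⟨g, zN g.2, congrArg Subtype.val e⟩

theorem L3.exists_y (l : L3 V) (h : Ord 7 G) [IsSimpleGroup G] (hz : z ∈ V) (hz1 : z ≠ 1) :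
    ∃ y ∈ normalizer (V : Set G), y ∈ C1 z ∧ orderOf y = 3 := by
  obtain ⟨-, -, y, yN, -, y3, -⟩ := l.frob
  have m := card_mod_C1 Nat.prime_three (y3 ▸ pow_orderOf_eq_one y) yN
  obtain ⟨v, hv, v1⟩ := (bot_or_exists_ne_one (V ⊓ C1 y)).resolve_left fun e => by
    rw [e, l.card, card_bot] at m
    exact absurd m (by decide)
  obtain ⟨n, nN, e⟩ := l.trans h hz hz1 hv.1 v1
  refine ⟨n⁻¹ * y * n⁻¹⁻¹, mul_mem (mul_mem (inv_mem nN) yN) (inv_mem (inv_mem nN)), mem_C1'.2 ?_,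
    ((MulAut.conj n⁻¹).orderOf_eq y).trans y3⟩
  calc n⁻¹ * y * n⁻¹⁻¹ * z = n⁻¹ * (y * (n * z * n⁻¹)) * n := by group
    _ = n⁻¹ * (n * z * n⁻¹ * y) * n := by rw [e, mem_C1'.1 hv.2]
    _ = _ := by group

theorem L3.exists_T (l : L3 V) (h : Ord 7 G) [IsSimpleGroup G] (hz : z ∈ V) (hz1 : z ≠ 1) :
    ∃ T ≤ normalizer (V : Set G), T ≤ C1 z ∧ IsPGroup 2 T ∧ centralizer (V : Set G) ≤ T ∧
      Nat.card T = 8 * Nat.card (centralizer (V : Set G)) := by
  have : Fact (Nat.Prime 2) := ⟨Nat.prime_two⟩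
  obtain ⟨T, TN, T2, CT, cT⟩ := l.syl
  obtain ⟨v, hv, v1⟩ := (bot_or_exists_ne_one _).resolve_left
    (inf_centralizer_ne_bot T2 (isPGroup_of_isElementaryAbelian l.ea) TN fun e =>
      hz1 (mem_bot.1 (e ▸ hz)))
  obtain ⟨n, nN, e⟩ := l.trans h hz hz1 hv.1 v1
  refine ⟨cj n⁻¹ T, cj_le_of_mem (inv_mem nN) TN, fun t ht => mem_C1'.2 ?_, isPGroup_cj _ T2, ?_,
    by rw [card_cj, cT]⟩
  · obtain ⟨s, hs, rfl⟩ := mem_cj'.1 ht
    calc n⁻¹ * s * n⁻¹⁻¹ * z = n⁻¹ * (s * (n * z * n⁻¹)) * n := by group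
      _ = n⁻¹ * (n * z * n⁻¹ * s) * n := by rw [e, hv.2 s hs]
      _ = _ := by group
  · rw [← cj_eq_of_mem_normalizer (normalizer_le_normalizer_centralizer V (inv_mem nN))]
    exact cj_mono CT

theorem L3.le_cen (l : L3 V) : V ≤ centralizer (V : Set G) := fun a ha b hb =>
  (isElementaryAbelian_iff.1 l.ea).1 b hb a ha

theorem L3.two_cen (l : L3 V) : IsPGroup 2 (centralizer (V : Set G)) :=
  let ⟨_, _, T2, CT, _⟩ := l.syl
  T2.to_le CT

theorem cen_le_R1 (hz : z ∈ V) : centralizer (V : Set G) ≤ R1 V z := fun g hg =>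
  ⟨centralizer_le_normalizer _ hg, mem_C1'.2 (hg z hz).symm, fun v hv => by
    rw [← hg v hv]; simp⟩

theorem L3a_cj {g c : G} (hg : g ∈ C1 z) (hc : c ∈ zpowers z) : g * c * g⁻¹ = c := by
  obtain ⟨n, rfl⟩ := hc
  rw [(Commute.zpow_right (mem_C1'.1 hg) n).eq, mul_inv_cancel_right]

theorem norm_R1 : normalizer (V : Set G) ⊓ C1 z ≤ normalizer (R1 V z : Set G) :=
  le_normalizer_of_cj_le fun g hg x hx => by
    obtain ⟨r, hr, rfl⟩ := mem_cj'.1 hx
    refine ⟨mul_mem (mul_mem hg.1 hr.1) (inv_mem hg.1),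
      mul_mem (mul_mem hg.2 hr.2.1) (inv_mem hg.2), fun v hv => ?_⟩
    have k := hr.2.2 _ (conj_mem_of_mem_normalizer' hg.1 hv)
    rw [← L3a_cj hg.2 k] at k
    convert k using 1
    group

theorem L3.two_R1 (l : L3 V) (hz : z ∈ V) : IsPGroup 2 (R1 V z) := isPGroup_iff_mem.2 fun r hr => by
  obtain ⟨k, e⟩ := isPGroup_iff_mem.1 l.two_cen (r ^ 2) fun v hv => by
    have c := hr.2.2 v hv
    have c2 := (isElementaryAbelian_iff.1 l.ea).2 _ (zpowers_le.2 hz c)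
    have c3 := L3a_cj hr.2.1 c
    calc v * r ^ 2 = (r * v * r⁻¹ * v⁻¹) ^ 2 * v * r ^ 2 := by rw [c2, one_mul]
      _ = (r * (r * v * r⁻¹ * v⁻¹) * r⁻¹) * (r * v * r⁻¹ * v⁻¹) * v * r ^ 2 := by rw [c3, pow_two]
      _ = _ := by rw [pow_two]; group
  exact ⟨k + 1, by rw [pow_succ', pow_mul, e]⟩

theorem L3a_idx (z2 : z ^ 2 = 1) {X : Subgroup G} (hX : X ≤ R1 V z) {v : G} (hv : v ∈ V) :
    Nat.card X ≤ 2 * Nat.card ↥(X ⊓ C1 v) := by
  let φ : X →* zpowers z := MonoidHom.mk' (fun r => ⟨r * v * r⁻¹ * v⁻¹, (hX r.2).2.2 v hv⟩) fun r s =>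
    Subtype.ext (by
      have c := (hX s.2).2.2 v hv
      have c' := (hX r.2).2.2 v hv
      change (r : G) * s * v * ((r : G) * s)⁻¹ * v⁻¹ = (r * v * (r : G)⁻¹ * v⁻¹) * (s * v * (s : G)⁻¹ * v⁻¹)
      calc _ = (r * (s * v * (s : G)⁻¹ * v⁻¹) * (r : G)⁻¹) * (r * v * (r : G)⁻¹ * v⁻¹) := by group
        _ = _ := by
          rw [L3a_cj (hX r.2).2.1 c]
          obtain ⟨m, e⟩ := c
          obtain ⟨n, e'⟩ := c'
          rw [← e, ← e']
          exact zpow_mul_comm z m n)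
  have h1 := card_mul_index φ.ker
  have h2 : φ.ker.index ≤ 2 := by
    rw [index_ker]
    refine (card_le_card_group _).trans ?_
    rw [Nat.card_zpowers]
    exact orderOf_le_of_pow_eq_one two_pos z2
  have h3 : Nat.card φ.ker ≤ Nat.card ↥(X ⊓ C1 v) := Nat.card_le_card_of_injective
    (fun r => ⟨r.1.1, r.1.2, mem_C1'.2 (by
      have : (r.1.1 : G) * v * (r.1.1)⁻¹ * v⁻¹ = 1 := congrArg Subtype.val (MonoidHom.mem_ker.1 r.2)
      rwa [mul_inv_eq_one, mul_inv_eq_iff_eq_mul] at this)⟩)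
    fun r s e => Subtype.ext (Subtype.ext (congrArg (fun t : ↥(X ⊓ C1 v) => (t : G)) e))
  rw [← h1, mul_comm]
  exact Nat.mul_le_mul h2 h3

theorem L3a_lt {A B : Subgroup G} (h : A ≤ B) {b : G} (hb : b ∈ B) (n : b ∉ A) :
    2 * Nat.card A ≤ Nat.card B := by
  obtain ⟨k, e⟩ := card_dvd_of_le h
  have p : 0 < Nat.card B := Nat.card_pos
  have : k ≠ 1 := fun e1 => n (eq_of_le_of_card_ge h (by rw [e, e1, mul_one]) ▸ hb)
  have : k ≠ 0 := fun e1 => by rw [e, e1] at p; omega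
  rw [e, mul_comm]
  exact Nat.mul_le_mul_left _ (by omega)

theorem L3.card_R1 (l : L3 V) (hz : z ∈ V) (hz1 : z ≠ 1) :
    Nat.card (R1 V z) ≤ 4 * Nat.card (centralizer (V : Set G)) := by
  have : Fact (Nat.Prime 2) := ⟨Nat.prime_two⟩
  have z2 := (isElementaryAbelian_iff.1 l.ea).2 z hz
  have c2 : Nat.card (zpowers z) = 2 := by rw [Nat.card_zpowers, orderOf_eq_prime z2 hz1]
  have c8 := l.card
  obtain ⟨v, hv, vz⟩ : ∃ v ∈ V, v ∉ zpowers z := by
    by_contra! k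
    have := card_le_of_le (k : V ≤ zpowers z)
    omega
  have i1 := L3a_idx z2 le_rfl hv
  have u1 := L3a_lt (A := zpowers z) (B := V ⊓ centralizer ((R1 V z ⊓ C1 v : Subgroup G) : Set G))
    (zpowers_le.2 ⟨hz, fun r hr => mem_C1'.1 hr.1.2.1⟩) ⟨hv, fun r hr => mem_C1'.1 hr.2⟩ vz
  by_cases e : V ≤ centralizer ((R1 V z ⊓ C1 v : Subgroup G) : Set G)
  · have := card_le_of_le (le_centralizer_iff.1 e)
    omega
  obtain ⟨w, hw, wc⟩ := SetLike.not_le_iff_exists.1 e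
  have i2 := L3a_idx z2 (inf_le_left : R1 V z ⊓ C1 v ≤ _) hw
  have u2 := L3a_lt (A := V ⊓ centralizer ((R1 V z ⊓ C1 v : Subgroup G) : Set G))
    (B := V ⊓ centralizer ((R1 V z ⊓ C1 v ⊓ C1 w : Subgroup G) : Set G))
    (inf_le_inf_left _ (centralizer_le fun r hr => hr.1)) ⟨hw, fun r hr => mem_C1'.1 hr.2⟩
    fun k => wc k.2
  have e2 : V ⊓ centralizer ((R1 V z ⊓ C1 v ⊓ C1 w : Subgroup G) : Set G) = V :=
    eq_of_le_of_card_ge inf_le_left (by omega)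
  have := card_le_of_le (le_centralizer_iff.1 (e2.ge.trans inf_le_right))
  omega

end Cfsg.Agent.PTT
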