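import Cfsg.Agent.PTT.Defs
import Cfsg.Agent.PTT.L3a
import Cfsg.Agent.H21.Basic

set_option autoImplicit false
set_option linter.unusedSectionVars false

namespace Cfsg.Agent.PTT

open Subgroup H69 H59

variable {G : Type*} [Group G] [Finite G] {p : ℕ}

namespace L3b

variable {z a b c y : G} {A W S : Subgroup G}

theorem cz (ha : a ∈ C1 z) (hc : c ∈ zpowers z) : a * c * a⁻¹ = c := by
  obtain ⟨k, rfl⟩ := hc
  exact mul_inv_eq_iff_eq_mul.2 (Commute.zpow_right (mem_C1.1 ha) k)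

theorem sym (h : a * b * a⁻¹ * b⁻¹ ∈ zpowers z) : b * a * b⁻¹ * a⁻¹ ∈ zpowers z := by
  simpa [mul_assoc] using inv_mem h

/-- the centraliser of `S` modulo `⟨z⟩` -/
def Cz (z : G) (S : Subgroup G) : Subgroup G where
  carrier := {a | a ∈ C1 z ∧ ∀ b ∈ S, a * b * a⁻¹ * b⁻¹ ∈ zpowers z}
  one_mem' := ⟨one_mem _, fun b _ => by simp⟩
  mul_mem' := fun {a a'} h h' => ⟨mul_mem h.1 h'.1, fun b hb => by
    have := mul_mem (h'.2 b hb) (h.2 b hb)
    rw [← cz h.1 (h'.2 b hb)] at this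
    convert this using 1; group⟩
  inv_mem' := fun {a} h => ⟨inv_mem h.1, fun b hb => by
    have := sym (h.2 b hb)
    rw [← cz (inv_mem h.1) this] at this
    convert this using 1; group⟩

theorem norm_Cz (hz : y ∈ C1 z) (hS : y ∈ normalizer (S : Set G)) : y ∈ normalizer (Cz z S : Set G) :=
  mem_normalizer_fintype fun a ha => ⟨mul_mem (mul_mem hz ha.1) (inv_mem hz), fun b hb => by
    have := ha.2 _ (conj_mem_of_mem_normalizer' hS hb)
    rw [← cz hz this] at this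
    convert this using 1; group⟩

theorem norm_inf (h : y ∈ normalizer (A : Set G)) (h' : y ∈ normalizer (W : Set G)) :
    y ∈ normalizer ((A ⊓ W : Subgroup G) : Set G) := inf_normalizer_le_normalizer_inf ⟨h, h'⟩

theorem norm_Z (hz : y ∈ C1 z) : y ∈ normalizer ((zpowers z : Subgroup G) : Set G) :=
  mem_normalizer_fintype fun a ha => by rwa [cz hz ha]

theorem norm_C1 (h : y ∈ C1 a) : y ∈ normalizer (C1 a : Set G) := le_normalizer h

theorem le_two (h : ∀ a ∈ W, ∀ b ∈ W, a ∉ A → b ∉ A → a * b ∈ A) :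
    Nat.card W ≤ 2 * Nat.card ↥(A ⊓ W) := by
  by_cases e : W ≤ A
  · rw [inf_eq_right.2 e]; omega
  obtain ⟨a, ha, ha'⟩ := SetLike.not_le_iff_exists.1 e
  rw [← H21.card_inf_mul_relIndex A W, relIndex_eq_two_iff_exists_notMem_and.2
    ⟨a, ha, ha', fun b hb => (em (b ∈ A)).symm.imp_left fun hb' => h b hb a ha hb' ha'⟩, mul_comm]

theorem of_le_two (h : Nat.card W ≤ 2 * Nat.card ↥(A ⊓ W)) (ha : a ∈ W) (hb : b ∈ W) (ha' : a ∉ A)
    (hb' : b ∉ A) : a * b ∈ A := by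
  have h0 := H21.relIndex_ne_zero' A W
  have h1 : A.relIndex W ≠ 1 := fun e => ha' (relIndex_eq_one.1 e ha)
  rw [← H21.card_inf_mul_relIndex A W, mul_comm] at h
  have h2 := Nat.le_of_mul_le_mul_right h (H21.card_pos' _)
  exact (mul_mem_iff_of_index_two (H := A.subgroupOf W) (a := ⟨a, ha⟩) (b := ⟨b, hb⟩)
    (show A.relIndex W = 2 by omega)).2 (iff_of_false ha' hb')

theorem es_Cz {E : Subgroup G} (hE : ES z E) : E ≤ Cz z E := fun a ha => ⟨hE.le ha, fun b hb => by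
  rcases hE.comm a ha b hb with e | e <;> simp [e, mul_assoc]⟩

theorem es_idx {E : Subgroup G} (hE : ES z E) (hW : W ≤ E) (ha : a ∈ E) :
    Nat.card W ≤ 2 * Nat.card ↥(C1 a ⊓ W) := le_two fun u hu v hv hu' hv' => by
  have e1 := (hE.comm u (hW hu) a ha).resolve_left (mt mem_C1.2 hu')
  have e2 := (hE.comm v (hW hv) a ha).resolve_left (mt mem_C1.2 hv')
  have zz : z * z = 1 := by rw [← sq, ← hE.ord, pow_orderOf_eq_one]
  rw [mem_C1, mul_assoc, e2, ← mul_assoc, mem_C1.1 (hE.le (hW hu)), mul_assoc, ← mul_assoc u, e1]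
  simp only [← mul_assoc, zz, one_mul]

end L3b

open L3b in
theorem r64 (t : Thin G) {V R : Subgroup G} {z y : G} (hR : IsPGroup 2 R) (hRz : R ≤ C1 z)
    (hV : IsElementaryAbelian 2 V) (h8 : Nat.card V = 8) (hz : z ∈ V)
    (hC : centralizer (V : Set G) = V) (hE : ES z (R1 V z)) (h32 : Nat.card (R1 V z) = 32)
    (hRN : R ⊓ normalizer (V : Set G) = R1 V z) (hy : orderOf y = 3)
    (hyV : y ∈ normalizer (V : Set G)) (hyR : y ∈ normalizer (R : Set G)) (hyz : y ∈ C1 z) :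
    Nat.card R ≤ 64 := by
  have VE : V ≤ R1 V z := hC.ge.trans (cen_le_R1 hz)
  have yE : y ∈ normalizer (R1 V z : Set G) := norm_R1 ⟨hyV, hyz⟩
  generalize R1 V z = E at *
  have z1 : z ≠ 1 := by rintro rfl; simpa using hE.ord
  have z2 : z ^ 2 = 1 := by rw [← hE.ord, pow_orderOf_eq_one]
  have cZ : Nat.card (zpowers z) = 2 := by rw [Nat.card_zpowers, hE.ord]
  have ZV : zpowers z ≤ V := zpowers_le.2 hz
  have ER : E ≤ R := hRN.ge.trans inf_le_left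
  have irr : ∀ {U : Subgroup G}, z ∈ U → y ∈ normalizer (U : Set G) → U ⊓ V = zpowers z ∨ V ≤ U :=
    fun hz' hn => (t.irr hV h8 hy z1 hyz inf_le_right ⟨hz', hz⟩ (norm_inf hn hyV)).imp_right inf_eq_right.1
  have fixy : E ⊓ C1 y = zpowers z := by
    refine le_antisymm (fun u ⟨hu, hu'⟩ => ?_) (zpowers_le.2 ⟨hE.mem, mem_C1_comm.1 hyz⟩)
    have hc := es_idx hE VE hu
    rcases irr (mem_C1_comm.1 (hE.le hu)) (norm_C1 (mem_C1_comm.1 hu')) with e | e
    · rw [e] at hc; omega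
    rcases irr (mem_C1_comm.1 hyz) (norm_C1 (self_mem_C1 y)) with e' | e'
    · exact e'.le ⟨hu', hC.le (le_C1.1 e)⟩
    · have := t.cen y V hy hV e'; omega
  have big : ∀ {U : Subgroup G}, U ≤ E → z ∈ U → y ∈ normalizer (U : Set G) → ¬ U ≤ zpowers z →
      8 ≤ Nat.card U := fun {U} h1 h2 h3 h4 => by
    have m := card_mod_C1 Nat.prime_three (hy ▸ pow_orderOf_eq_one y) h3
    rw [show U ⊓ C1 y = zpowers z from le_antisymm ((inf_le_inf_right _ h1).trans fixy.le)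
      (zpowers_le.2 ⟨h2, mem_C1_comm.1 hyz⟩), cZ] at m
    have d := card_dvd_of_le h1
    have l := H21.card_lt_of_lt (lt_of_le_of_ne (zpowers_le.2 h2) fun e => h4 e.ge)
    rw [h32] at d
    by_contra k
    unfold Nat.ModEq at m
    generalize Nat.card U = n at *
    have : n = 5 := by omega
    subst this
    omega
  have small : ∀ {U : Subgroup G}, U ≤ E → U ⊓ V ≤ zpowers z → Nat.card U ≤ 8 := fun {U} h1 h2 => by
    have := (H21.card_mul_card_le U V).trans (Nat.mul_le_mul (card_le_of_le (sup_le h1 VE)) (card_le_of_le h2))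
    rw [h8, h32, cZ] at this
    omega
  obtain ⟨R2, hR2⟩ : ∃ R2, R2 = R ⊓ normalizer (E : Set G) := ⟨_, rfl⟩
  have R2R : R2 ≤ R := hR2 ▸ inf_le_left
  have R2E : R2 ≤ normalizer (E : Set G) := hR2 ▸ inf_le_right
  have ER2 : E ≤ R2 := hR2 ▸ le_inf ER le_normalizer
  have yR2 : y ∈ normalizer (R2 : Set G) := hR2 ▸ norm_inf hyR (le_normalizer yE)
  by_cases h0 : R2 ≤ E
  · by_contra k
    obtain ⟨u, h1, h2, h3⟩ := exists_norm_not_mem hR (lt_of_le_of_ne ER (by rintro rfl; omega))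
    exact h3 (h0 (hR2 ▸ ⟨h1, h2⟩))
  have inE : ∀ r ∈ R2, (∀ v ∈ V, r * v * r⁻¹ * v⁻¹ ∈ zpowers z) → r ∈ E := fun r hr h =>
    hRN.le ⟨R2R hr, mem_normalizer_fintype fun v hv => (mul_mem_cancel_right (inv_mem hv)).1 (ZV (h v hv))⟩
  obtain ⟨X, hX⟩ : ∃ X, X = E ⊓ Cz z R2 := ⟨_, rfl⟩
  have XE : X ≤ E := hX ▸ inf_le_left
  have mX : ∀ {u}, u ∈ X ↔ u ∈ E ∧ ∀ r ∈ R2, r * u * r⁻¹ * u⁻¹ ∈ zpowers z := fun {u} => hX ▸
    ⟨fun h => ⟨h.1, fun r hr => sym (h.2.2 r hr)⟩, fun h => ⟨h.1, hE.le h.1, fun r hr => sym (h.2 r hr)⟩⟩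
  have zX : z ∈ X := mX.2 ⟨hE.mem, fun r hr => by rw [cz (hRz (R2R hr)) (mem_zpowers z)]; simp⟩
  have yX : y ∈ normalizer (X : Set G) := hX ▸ norm_inf yE (norm_Cz hyz yR2)
  have XV : X ⊓ V = zpowers z := (irr zX yX).resolve_right fun h =>
    h0 fun r hr => inE r hr fun v hv => (mX.1 (h hv)).2 r hr
  have fix : ∀ {U : Subgroup G}, U ≤ E → z ∈ U → R2 ≤ normalizer (U : Set G) → ¬ U ≤ zpowers z →
      ¬ X ⊓ U ≤ zpowers z := fun {U} h1 h2 h3 h4 h5 => by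
    obtain ⟨u, hu, hu', k⟩ := exists_fix_mod (hR.to_le R2R) (hR.to_le (h1.trans ER))
      (lt_of_le_of_ne (zpowers_le.2 h2) fun e => h4 e.ge) h3 (fun r hr => norm_Z (hRz (R2R hr)))
      fun r hr => norm_Z (hE.le (h1 hr))
    exact hu' (h5 ⟨mX.2 ⟨h1 hu, k⟩, hu⟩)
  have X8 : 8 ≤ Nat.card X := big XE zX yX fun h => fix le_rfl hE.mem R2E
    (fun h => by have := card_le_of_le h; omega) (inf_le_left.trans h)
  have XVE : X ⊔ V = E := by
    refine H21.eq_of_le_of_card_le (sup_le XE VE) ?_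
    have := H21.card_mul_card_le X V
    rw [XV, h8, cZ] at this
    omega
  obtain ⟨D, hD⟩ : ∃ D, D = E ⊓ centralizer (X : Set G) := ⟨_, rfl⟩
  have DE : D ≤ E := hD ▸ inf_le_left
  have DX : D ≤ centralizer (X : Set G) := hD ▸ inf_le_right
  have zD : z ∈ D := hD ▸ ⟨hE.mem, le_C1.1 (XE.trans hE.le)⟩
  have yD : y ∈ normalizer (D : Set G) := hD ▸ norm_inf yE (normalizer_le_normalizer_centralizer _ yX)
  have rD : R2 ≤ normalizer (D : Set G) := fun r hr => hD ▸ norm_inf (R2E hr)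
    (normalizer_le_normalizer_centralizer _ (mem_normalizer_fintype fun x hx =>
      (mul_mem_cancel_right (inv_mem hx)).1 (zpowers_le.2 zX ((mX.1 hx).2 r hr))))
  have dD : ∀ r ∈ R2, ∀ u ∈ E, u⁻¹ * (r * u * r⁻¹) ∈ D := fun r hr u hu => by
    rw [hD, mem_inf]
    refine ⟨mul_mem (inv_mem hu) (conj_mem_of_mem_normalizer (R2E hr) hu), fun x hx => ?_⟩
    have c1 := (mX.1 hx).2 _ (inv_mem hr)
    have c2 := (es_Cz hE hu).2 x (XE hx)
    have e1 := cz (hE.le hu) c1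
    have e2 := cz (hRz (R2R hr)) c2
    generalize hc : r⁻¹ * x * r⁻¹⁻¹ * x⁻¹ = c at *
    generalize hk : u * x * u⁻¹ * x⁻¹ = k at *
    have : r * u * r⁻¹ * x * (r * u * r⁻¹)⁻¹ = u * x * u⁻¹ :=
      calc _ = r * (u * c * u⁻¹ * (k * x)) * r⁻¹ := by rw [← hc, ← hk]; group
        _ = r * (c * k * c⁻¹) * r⁻¹ * (r * (c * x) * r⁻¹) := by rw [e1]; group
        _ = k * (r * (c * x) * r⁻¹) := by rw [cz (zpowers_le.2 (self_mem_C1 z) c1) c2, e2]
        _ = _ := by rw [← hc, ← hk]; group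
    calc _ = u⁻¹ * (u * x * u⁻¹) * (r * u * r⁻¹) := by group
      _ = _ := by rw [← this]; group
  have DV : D ⊓ V ≤ zpowers z := fun w ⟨h1, h2⟩ => (mem_zpowers_two z2).2 (hE.cen w (DE h1) fun u hu =>
    (mem_C1.1 (sup_le (le_C1.2 (DX h1)) (le_C1.2 (hC.ge h2)) (XVE.ge hu))).symm)
  have dZ : ∀ {r u : G}, r ∈ R2 → u ∈ E → u⁻¹ * (r * u * r⁻¹) ∈ zpowers z → r * u * r⁻¹ * u⁻¹ ∈ zpowers z :=
    fun {r u} _ hu h => by
      rw [← cz (hE.le hu) h] at h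
      convert h using 1; group
  have D1 : ¬ D ≤ zpowers z := fun h => h0 fun r hr => inE r hr fun v hv => dZ hr (VE hv) (h (dD r hr v (VE hv)))
  have D8 := small DE DV
  have DX' : D ≤ X := inf_eq_right.1 (H21.eq_of_le_of_card_le inf_le_right (D8.trans
    (big (inf_le_right.trans DE) ⟨zX, zD⟩ (norm_inf yX yD) (fix DE zD rD D1))))
  have Dc : ∀ a ∈ D, ∀ b ∈ D, a * b = b * a := fun a ha b hb => DX hb a (DX' ha)
  have D2 : ∀ d ∈ D, d * d = 1 := by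
    let F : Subgroup G :=
      { carrier := {d | d ∈ D ∧ d * d = 1}
        one_mem' := ⟨one_mem _, mul_one _⟩
        mul_mem' := fun {a b} ha hb => ⟨mul_mem ha.1 hb.1, by
          rw [mul_assoc, ← mul_assoc b, Dc b hb.1 a ha.1, mul_assoc, hb.2, mul_one, ha.2]⟩
        inv_mem' := fun {a} ha => ⟨inv_mem ha.1, by rw [← mul_inv_rev, ha.2, inv_one]⟩ }
    have FD : F ≤ D := fun _ h => h.1
    have h1 : Nat.card D ≤ 2 * Nat.card ↥(F ⊓ D) := le_two fun a ha b hb ha' hb' => ⟨mul_mem ha hb, by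
      have e1 := (hE.sq a (DE ha)).resolve_left fun e => ha' ⟨ha, sq a ▸ e⟩
      have e2 := (hE.sq b (DE hb)).resolve_left fun e => hb' ⟨hb, sq b ▸ e⟩
      rw [mul_assoc, ← mul_assoc b, Dc b hb a ha, mul_assoc, ← sq, e2, ← mul_assoc, ← sq, e1, ← sq, z2]⟩
    rw [inf_eq_left.2 FD] at h1
    have h2 := big DE zD yD D1
    have h3 := big (U := F) (FD.trans DE) ⟨zD, sq z ▸ z2⟩ (mem_normalizer_fintype fun a ha =>
      ⟨conj_mem_of_mem_normalizer yD ha.1, by rw [conj_mul, ha.2]; group⟩)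
      fun h => by have := card_le_of_le h; omega
    exact fun d hd => ((H21.eq_of_le_of_card_le FD (D8.trans h3)).ge hd).2
  have dv : ∀ r ∈ R2, ∀ v ∈ V, v⁻¹ * (r * v * r⁻¹) ∈ C1 v := fun r hr v hv => by
    have v2 : v * v = 1 := sq v ▸ (isElementaryAbelian_iff.1 hV).2 v hv
    have h1 := D2 _ (dD r hr v (VE hv))
    have h2 : r * v * r⁻¹ * (r * v * r⁻¹) = 1 := by rw [conj_mul, v2]; group
    generalize r * v * r⁻¹ = w at h1 h2
    rw [inv_eq_of_mul_eq_one_right v2] at h1 ⊢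
    rw [mem_C1, ← mul_assoc, v2, one_mul, ← mul_left_inj w, h2, mul_assoc, h1]
  obtain ⟨v, hv, hv'⟩ : ∃ v ∈ V, v ∉ zpowers z := SetLike.not_le_iff_exists.1 fun h => by
    have := card_le_of_le h; omega
  have half : ∀ {U W : Subgroup G} {a b : G}, Nat.card U = 8 → ¬ U ≤ W → z ∈ W ⊓ U → a ∈ W ⊓ U → b ∈ W ⊓ U →
      a ∉ zpowers z → b ∉ zpowers z → a * b ∈ zpowers z := fun {U W a b} h1 h2 h3 ha hb => by
    refine of_le_two ?_ ha hb
    have d := card_dvd_of_le (inf_le_right : W ⊓ U ≤ U)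
    have l := H21.card_lt_of_lt (lt_of_le_of_ne (inf_le_right : W ⊓ U ≤ U) fun e => h2 (inf_eq_right.1 e))
    rw [inf_eq_left.2 (zpowers_le.2 h3), cZ]
    rw [h1] at d l
    generalize Nat.card ↥(W ⊓ U) = n at *
    interval_cases n <;> omega
  have key : ∀ r ∈ R2, v⁻¹ * (r * v * r⁻¹) ∈ zpowers z → r ∈ E := fun r hr h => inE r hr fun w hw => by
    refine dZ hr (VE hw) ?_
    have h1 := dv r hr w hw
    have h2 := dv r hr _ (mul_mem hv hw)
    have h3 := dD r hr w (VE hw)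
    have e : (v * w)⁻¹ * (r * (v * w) * r⁻¹) = w⁻¹ * (v⁻¹ * (r * v * r⁻¹)) * w⁻¹⁻¹ * (w⁻¹ * (r * w * r⁻¹)) := by
      group
    rw [cz (inv_mem (hE.le (VE hw))) h] at e
    rw [e, mul_mem_cancel_left (zpowers_le.2 (mem_C1_comm.1 (hE.le (VE (mul_mem hv hw)))) h)] at h2
    by_contra hd
    have h4 := half h8 (fun k => hd (DV ⟨h3, hC.le (le_C1.1 k)⟩)) ⟨mem_C1_comm.1 (hE.le (DE h3)), hz⟩
      ⟨(mul_mem_cancel_right (mem_C1_comm.1 h1)).1 (mem_C1_comm.1 h2), hv⟩ ⟨mem_C1_comm.1 h1, hw⟩ hv'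
      fun k => hd (by rw [cz (hRz (R2R hr)) k]; simp)
    rw [cz (hRz (R2R hr)) h4, inv_mul_cancel] at e
    exact hd ((mul_mem_cancel_left h).1 (e ▸ one_mem _))
  have Dv : ¬ D ≤ C1 v := fun k => by
    rcases irr (le_C1.1 (DE.trans hE.le)) (normalizer_le_normalizer_centralizer _ yD) with e | e
    · exact hv' (e.le ⟨le_C1.1 k, hv⟩)
    · exact D1 fun d hd => DV ⟨hd, hC.le (le_centralizer_iff.1 e hd)⟩
  have two : ∀ r ∈ R2, ∀ s ∈ R2, r ∉ E → s ∉ E → r * s ∈ E := fun r hr s hs hr' hs' => key _ (mul_mem hr hs) (by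
    have h1 := dD r hr v (VE hv)
    have h2 := dD s hs v (VE hv)
    have h3 := (mX.1 (DX' h2)).2 r hr
    have h4 := mul_mem h3 (half (D8.antisymm (big DE zD yD D1)) Dv ⟨mem_C1_comm.1 (hE.le (VE hv)), zD⟩
      ⟨dv r hr v hv, h1⟩ ⟨dv s hs v hv, h2⟩ (mt (key r hr) hr') (mt (key s hs) hs'))
    rw [← cz (hE.le (DE h1)) h3] at h4
    convert h4 using 1; group)
  have c64 := le_two two
  rw [inf_eq_left.2 ER2, h32] at c64
  by_contra k
  obtain ⟨g, g1, g2, g3⟩ := exists_norm_not_mem hR (lt_of_le_of_ne R2R (by rintro rfl; omega))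
  have l1 : cj g E ≤ R2 := cj_le_of_mem_normalizer g2 ER2
  obtain ⟨r, hr, hr'⟩ : ∃ r ∈ cj g E, r ∉ E := SetLike.not_le_iff_exists.1 fun h =>
    g3 (hR2 ▸ ⟨g1, cj_eq_self_iff.1 (H21.eq_of_le_of_card_le h (card_cj g E).ge)⟩)
  have l2 : E ≤ Cz z (cj g E ⊓ E) := fun a ha => ⟨hE.le ha, fun b hb => (es_Cz hE ha).2 b hb.2⟩
  have l3 : r ∈ Cz z (cj g E ⊓ E) := ⟨hRz (R2R (l1 hr)), fun b hb => by
    have := (es_Cz hE (mem_cj.1 hr)).2 _ (mem_cj.1 hb.1)
    rw [← cz (hRz g1) this] at this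
    convert this using 1; group⟩
  have l4 : cj g E ⊓ E ≤ X := fun u hu => mX.2 ⟨hu.2, fun s hs => by
    by_cases e : s ∈ E
    · exact (l2 e).2 u hu
    · exact ((mul_mem_cancel_right l3).1 (l2 (two s hs r (l1 hr) e hr'))).2 u hu⟩
  have := (H21.card_mul_card_le (cj g E) E).trans (Nat.mul_le_mul ((card_le_of_le (sup_le l1 ER2)).trans c64)
    ((card_le_of_le l4).trans (small XE XV.le)))
  rw [card_cj, h32] at this
  omega

end Cfsg.Agent.PTT
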