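import Cfsg.Agent.PTT.Defs
import Cfsg.Agent.PTT.L3a

/-! The elements of `C(V)` that are central modulo `⟨z⟩`; the extraspecial case. -/

set_option autoImplicit false
set_option linter.unusedSectionVars false
set_option linter.unusedVariables false
set_option linter.unusedSimpArgs false

namespace Cfsg.Agent.PTT

open Subgroup H69 H59

variable {G : Type*} [Group G] [Finite G] {p : ℕ}

/-- a subgroup of index at most two -/
theorem l3z_two {W U : Subgroup G} (h : ∀ a ∈ W, ∀ b ∈ W, a ∉ U → b ∉ U → a⁻¹ * b ∈ U) :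
    Nat.card W ≤ 2 * Nat.card U := by
  classical
  by_cases e : W ≤ U
  · have := card_le_of_le e; omega
  · obtain ⟨a, ha, haU⟩ := SetLike.not_le_iff_exists.1 e
    have := Nat.card_le_card_of_injective
      (fun w : W => if hw : (w : G) ∈ U then ((true, ⟨w, hw⟩) : Bool × U)
        else (false, ⟨a⁻¹ * w, h a ha w w.2 haU hw⟩)) fun w w' e => by
        by_cases h1 : (w : G) ∈ U <;> by_cases h2 : (w' : G) ∈ U <;> simp [h1, h2] at e <;>
          exact e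
    simpa using this

/-- a fixed-point-free element: every element is a commutator -/
theorem l3z_surj {Q : Subgroup G} {x : G} (hx : x ∈ normalizer (Q : Set G))
    (fpf : ∀ q ∈ Q, q * x = x * q → q = 1) {w : G} (hw : w ∈ Q) : ∃ q ∈ Q, x * q * x⁻¹ * q⁻¹ = w := by
  have inj : Function.Injective fun q : Q =>
      (⟨x * q * x⁻¹ * (q : G)⁻¹, mul_mem (conj_mem_of_mem_normalizer hx q.2) (inv_mem q.2)⟩ : Q) := by
    intro q r e
    have e' : x * q * x⁻¹ * (q : G)⁻¹ = x * r * x⁻¹ * (r : G)⁻¹ := congrArg Subtype.val e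
    have := fpf ((r : G)⁻¹ * q) (mul_mem (inv_mem r.2) q.2) (by
      calc (r : G)⁻¹ * q * x = x * (r : G)⁻¹ * x⁻¹ * (x * r * x⁻¹ * (r : G)⁻¹) * q * x := by group
        _ = _ := by rw [← e']; group)
    exact Subtype.ext (inv_mul_eq_one.1 this).symm
  obtain ⟨q, e⟩ := Finite.injective_iff_surjective.1 inj ⟨w, hw⟩
  exact ⟨q, q.2, congrArg Subtype.val e⟩

theorem l3z_fpf (h : Ord 7 G) [IsSimpleGroup G] {x : G} (hx : orderOf x = 7) {Q : Subgroup G}
    (hQ : IsPGroup 2 Q) : ∀ q ∈ Q, q * x = x * q → q = 1 := fun q hq e => by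
  obtain ⟨k, hk⟩ := isPGroup_iff_mem.1 hQ q hq
  refine h.fpf hx e fun d => ?_
  have := (by norm_num : Nat.Prime 7).dvd_of_dvd_pow (d.trans (orderOf_dvd_of_pow_eq_one hk))
  omega

variable {V : Subgroup G} {z : G}

/-- `w ∈ C(V)` is central modulo `⟨z⟩` -/
def Pz (V : Subgroup G) (z w : G) : Prop :=
  w ∈ centralizer (V : Set G) ∧ ∀ q ∈ centralizer (V : Set G), q * w * q⁻¹ * w⁻¹ ∈ zpowers z

theorem Pz.conj {w n : G} (h : Pz V z w) (hn : n ∈ normalizer (V : Set G)) :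
    Pz V (n * z * n⁻¹) (n * w * n⁻¹) := by
  have hn' := normalizer_le_normalizer_centralizer V hn
  refine ⟨conj_mem_of_mem_normalizer hn' h.1, fun q hq => ?_⟩
  rw [← cj_zpowers, mem_cj]
  have := h.2 _ (conj_mem_of_mem_normalizer' hn' hq)
  rwa [show n⁻¹ * q * n * w * (n⁻¹ * q * n)⁻¹ * w⁻¹ =
    n⁻¹ * (q * (n * w * n⁻¹) * q⁻¹ * (n * w * n⁻¹)⁻¹) * n by group] at this

theorem Pz.comm_ne {z' w w' : G} (h : Pz V z w) (h' : Pz V z' w') (hz : z ^ 2 = 1) (hz' : z' ^ 2 = 1)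
    (ne : z ≠ z') : w * w' = w' * w := by
  have a := inv_mem (h.2 w' h'.1)
  rw [show (w' * w * w'⁻¹ * w⁻¹)⁻¹ = w * w' * w⁻¹ * w'⁻¹ by group] at a
  have b := h'.2 w h.1
  have e : w * w' * w⁻¹ * w'⁻¹ = 1 := ((mem_zpowers_two hz).1 a).elim id fun e =>
    ((mem_zpowers_two hz').1 b).resolve_right fun e' => ne (e.symm.trans e')
  calc w * w' = w * w' * w⁻¹ * w'⁻¹ * (w' * w) := by group
    _ = _ := by rw [e, one_mul]

theorem L3.sq (l : L3 V) {v : G} (hv : v ∈ V) : v ^ 2 = 1 := l.ea.2 v hv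

theorem L3.pz_comm (l : L3 V) (h : Ord 7 G) [IsSimpleGroup G] {z' w w' : G} (hz : z ∈ V) (hz1 : z ≠ 1)
    (hz' : z' ∈ V) (a : Pz V z w) (b : Pz V z' w') : w * w' = w' * w := by
  by_cases ne : z = z'
  swap
  · exact a.comm_ne b (l.sq hz) (l.sq hz') ne
  subst ne
  obtain ⟨x, hx, -, -, x7, -, -⟩ := l.frob
  obtain ⟨q, hq, e⟩ := l3z_surj (normalizer_le_normalizer_centralizer V hx) (l3z_fpf h x7 l.two_cen) a.1
  have key : ∀ i, 0 < i → i < 7 → (x ^ i)⁻¹ * w * (x ^ i)⁻¹⁻¹ ∈ C1 w' := fun i h0 h7 => by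
    have hn := inv_mem (pow_mem hx i)
    refine mem_C1.2 ((a.conj hn).comm_ne b (l.sq (conj_mem_of_mem_normalizer hn hz)) (l.sq hz) fun e => hz1 ?_)
    have o : orderOf (x ^ i) = 7 := by
      rw [← x7]
      exact Nat.Coprime.orderOf_pow (by rw [x7]; interval_cases i <;> norm_num)
    refine l3z_fpf h o (isPGroup_of_isElementaryAbelian l.ea) z hz ?_
    calc z * x ^ i = x ^ i * ((x ^ i)⁻¹ * z * (x ^ i)⁻¹⁻¹) := by group
      _ = _ := by rw [e]
  have m := inv_mem (mul_mem (mul_mem (mul_mem (mul_mem (mul_mem (key 1 (by omega) (by omega))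
    (key 2 (by omega) (by omega))) (key 3 (by omega) (by omega))) (key 4 (by omega) (by omega)))
    (key 5 (by omega) (by omega))) (key 6 (by omega) (by omega)))
  have x1 : x ^ 7 = 1 := by rw [← x7]; exact pow_orderOf_eq_one x
  refine mem_C1.1 (?_ : w ∈ C1 w')
  convert m using 1
  rw [← e]
  calc x * q * x⁻¹ * q⁻¹ = (x ^ 7)⁻¹ * (x * q * x⁻¹) * x ^ 7 * q⁻¹ := by rw [x1]; group
    _ = _ := by simp only [pow_succ, pow_zero, one_mul, mul_inv_rev, inv_inv, mul_assoc,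
      mul_inv_cancel_left, inv_mul_cancel_left]

theorem L3.z0_inv (l : L3 V) (h : Ord 7 G) [IsSimpleGroup G] (t : Thin G) (hz : z ∈ V)
    (hz1 : z ≠ 1) {w : G} (hw : w ∈ centralizer (V : Set G)) (h2 : w ^ 2 = 1)
    (hc : ∀ q ∈ centralizer (V : Set G), q * w * q⁻¹ * w⁻¹ ∈ zpowers z) : w ∈ V := by
  let S : Set G := {u | u ^ 2 = 1 ∧ ∃ z' ∈ V, z' ≠ 1 ∧ Pz V z' u}
  have cm : ∀ a ∈ S, ∀ b ∈ S, a * b = b * a := by
    rintro a ⟨-, z1, h1, n1, pa⟩ b ⟨-, z2, h2, -, pb⟩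
    exact l.pz_comm h h1 n1 h2 pa pb
  have cm' : ∀ a ∈ closure S, ∀ b ∈ closure S, a * b = b * a := fun a ha b hb =>
    (closure_le (centralizer (closure S : Set G))).2 (fun s hs => by
      rw [SetLike.mem_coe, centralizer_closure]
      exact fun s' hs' => cm s' hs' s hs) hb a ha
  have ea : IsElementaryAbelian 2 (closure S) := isElementaryAbelian_iff.2 ⟨cm', fun a ha => by
    induction ha using closure_induction with
    | mem s hs => exact hs.1
    | one => exact one_pow 2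
    | mul a b ha hb ia ib => rw [(show Commute a b from cm' a ha b hb).mul_pow, ia, ib, one_mul]
    | inv a _ ia => rw [inv_pow, ia, inv_one]⟩
  have nm : normalizer (V : Set G) ≤ normalizer (closure S : Set G) := le_normalizer_of_cj_le fun n hn => by
    rw [cj_closure]
    refine closure_mono ?_
    rintro _ ⟨u, ⟨u2, z1, h1, n1, pu⟩, rfl⟩
    exact ⟨by rw [conj_pow, u2]; group, _, conj_mem_of_mem_normalizer hn h1, by simpa using n1, pu.conj hn⟩
  have le : V ≤ closure S := fun v hv => subset_closure ⟨l.sq hv, z, hz, hz1, l.le_cen hv, fun q hq => by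
    rw [← mem_centralizer_iff.1 hq v hv]; simp⟩
  obtain ⟨x, hx, y, hy, x7, y3, e⟩ := l.frob
  rw [eq_of_le_of_card_ge le ((frob8 h t x7 y3 e ea (nm hx) (nm hy)).trans l.card.ge)]
  exact subset_closure ⟨h2, z, hz, hz1, hw, hc⟩

theorem L3.z0_card (l : L3 V) (h : Ord 7 G) [IsSimpleGroup G] (t : Thin G) (hz : z ∈ V)
    (hz1 : z ≠ 1) {W : Subgroup G} (hW : W ≤ centralizer (V : Set G))
    (h2 : ∀ w ∈ W, w ^ 2 ∈ zpowers z)
    (hc : ∀ w ∈ W, ∀ q ∈ centralizer (V : Set G), q * w * q⁻¹ * w⁻¹ ∈ zpowers z) :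
    Nat.card W ≤ 16 := by
  have sq : ∀ a ∈ W, a ∉ V → a ^ 2 = z := fun a ha n =>
    ((mem_zpowers_two (l.sq hz)).1 (h2 a ha)).resolve_left fun e => n (l.z0_inv h t hz hz1 (hW ha) e (hc a ha))
  have := l3z_two (W := W) (U := V) fun a ha b hb na nb => by
    have m := mul_mem (inv_mem ha) hb
    refine l.z0_inv h t hz hz1 (hW m) ?_ (hc _ m)
    have c : Commute a⁻¹ b := l.pz_comm h hz hz1 hz ⟨hW (inv_mem ha), hc _ (inv_mem ha)⟩ ⟨hW hb, hc b hb⟩
    rw [c.mul_pow, inv_pow, sq a ha na, sq b hb nb, inv_mul_cancel]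
  rw [l.card] at this
  exact this

/-- the elements acting trivially on `C(V) / V` -/
def l3zK (V : Subgroup G) : Subgroup G where
  carrier := {g | g ∈ normalizer (V : Set G) ∧ ∀ q ∈ centralizer (V : Set G), g * q * g⁻¹ * q⁻¹ ∈ V}
  one_mem' := ⟨one_mem _, fun q _ => by simp⟩
  mul_mem' := fun {a b} ha hb => ⟨mul_mem ha.1 hb.1, fun q hq => by
    have := mul_mem (conj_mem_of_mem_normalizer ha.1 (hb.2 q hq)) (ha.2 q hq)
    rwa [show a * (b * q * b⁻¹ * q⁻¹) * a⁻¹ * (a * q * a⁻¹ * q⁻¹) =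
      a * b * q * (a * b)⁻¹ * q⁻¹ by group] at this⟩
  inv_mem' := fun {a} ha => ⟨inv_mem ha.1, fun q hq => by
    have := inv_mem (ha.2 _ (conj_mem_of_mem_normalizer' (normalizer_le_normalizer_centralizer V ha.1) hq))
    rwa [show (a * (a⁻¹ * q * a) * a⁻¹ * (a⁻¹ * q * a)⁻¹)⁻¹ = a⁻¹ * q * a⁻¹⁻¹ * q⁻¹ by group] at this⟩

/-- the elements of `R` that are central modulo `⟨z⟩` and have their square in `⟨z⟩` -/
def l3zZ {R : Subgroup G} {z : G} (hR : R ≤ C1 z) : Subgroup G where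
  carrier := {u | u ∈ R ∧ u ^ 2 ∈ zpowers z ∧ ∀ r ∈ R, r * u * r⁻¹ * u⁻¹ ∈ zpowers z}
  one_mem' := ⟨one_mem _, by simp, fun r _ => by simp⟩
  mul_mem' := fun {a b} ha hb => by
    have nz : ∀ c ∈ zpowers z, a * c * a⁻¹ ∈ zpowers z := by
      rintro _ ⟨k, rfl⟩
      rw [show a * z ^ k * a⁻¹ = z ^ k from
        mul_inv_eq_iff_eq_mul.2 ((show Commute a z from mem_C1.1 (hR ha.1)).zpow_right k)]
      exact ⟨k, rfl⟩
    refine ⟨mul_mem ha.1 hb.1, ?_, fun r hr => ?_⟩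
    · have := mul_mem (mul_mem (nz _ (ha.2.2 b hb.1)) ha.2.1) hb.2.1
      rwa [show a * (b * a * b⁻¹ * a⁻¹) * a⁻¹ * a ^ 2 * b ^ 2 = (a * b) ^ 2 by
        simp only [sq]; group] at this
    · have := mul_mem (ha.2.2 r hr) (nz _ (hb.2.2 r hr))
      rwa [show r * a * r⁻¹ * a⁻¹ * (a * (r * b * r⁻¹ * b⁻¹) * a⁻¹) =
        r * (a * b) * r⁻¹ * (a * b)⁻¹ by group] at this
  inv_mem' := fun {a} ha => by
    refine ⟨inv_mem ha.1, by rw [inv_pow]; exact inv_mem ha.2.1, fun r hr => ?_⟩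
    obtain ⟨k, e⟩ := inv_mem (ha.2.2 r hr)
    refine ⟨k, ?_⟩
    have c : a⁻¹ * z ^ k * a = z ^ k := by
      rw [mul_assoc, ← (show Commute a z from mem_C1.1 (hR ha.1)).zpow_right k, inv_mul_cancel_left]
    show z ^ k = _
    rw [← c, show z ^ k = _ from e]; group

theorem L3.esl (l : L3 V) (h : Ord 7 G) [IsSimpleGroup G] (t : Thin G) (hz : z ∈ V)
    (hz1 : z ≠ 1) {f : G} (hf : f ∈ R1 V z) (hfV : f ∉ V) (h2 : f ^ 2 = 1)
    (hc : ∀ r ∈ R1 V z, r * f * r⁻¹ * f⁻¹ ∈ zpowers z) :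
    centralizer (V : Set G) = V ∧ Nat.card (R1 V z) = 32 ∧ ES z (R1 V z) := by
  have z2 := l.sq hz
  have zV : zpowers z ≤ V := zpowers_le.2 hz
  have fQ : f ∉ centralizer (V : Set G) := fun m =>
    hfV (l.z0_inv h t hz hz1 m h2 fun q hq => hc q (cen_le_R1 hz hq))
  have QV : centralizer (V : Set G) = V := by
    refine le_antisymm (fun w hw => ?_) l.le_cen
    have fK : f ∈ l3zK V := ⟨hf.1, fun q hq => by
      have := inv_mem (zV (hc q (cen_le_R1 hz hq)))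
      rwa [show (q * f * q⁻¹ * f⁻¹)⁻¹ = f * q * f⁻¹ * q⁻¹ by group] at this⟩
    obtain ⟨x, hx, x7⟩ := (l.simp (l3zK V) (fun g hg => hg.1) (le_normalizer_of_cj_le fun n hn g0 hg0 => by
      obtain ⟨g, hg, rfl⟩ := mem_cj'.1 hg0
      refine ⟨mul_mem (mul_mem hn hg.1) (inv_mem hn), fun q hq => ?_⟩
      have := conj_mem_of_mem_normalizer hn
        (hg.2 _ (conj_mem_of_mem_normalizer' (normalizer_le_normalizer_centralizer V hn) hq))
      rwa [show n * (g * (n⁻¹ * q * n) * g⁻¹ * (n⁻¹ * q * n)⁻¹) * n⁻¹ =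
        n * g * n⁻¹ * q * (n * g * n⁻¹)⁻¹ * q⁻¹ by group] at this)).resolve_left fun e => fQ (e fK)
    obtain ⟨q, hq, e⟩ := l3z_surj (normalizer_le_normalizer_centralizer V hx.1) (l3z_fpf h x7 l.two_cen) hw
    exact e ▸ hx.2 q hq
  obtain ⟨y, hy, yz, y3⟩ := l.exists_y h hz hz1
  have yR : y ∈ normalizer (R1 V z : Set G) := norm_R1 ⟨hy, yz⟩
  have RC : R1 V z ≤ C1 z := fun g hg => hg.2.1
  have VR : V ≤ R1 V z := l.le_cen.trans (cen_le_R1 hz)
  have cz : Nat.card (zpowers z) = 2 := by rw [Nat.card_zpowers, orderOf_eq_prime z2 hz1]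
  have yzz : y * z * y⁻¹ = z := mul_inv_eq_iff_eq_mul.2 (mem_C1.1 yz)
  have VZ : V ≤ l3zZ RC := fun v hv => ⟨VR hv, by rw [l.sq hv]; exact one_mem _, fun r hr => hr.2.2 v hv⟩
  have fZ : f ∈ l3zZ RC := ⟨hf, by rw [h2]; exact one_mem _, hc⟩
  have fZ' : y * f * y⁻¹ ∈ l3zZ RC := ⟨conj_mem_of_mem_normalizer yR hf, by
    rw [conj_pow, h2]; simp, fun r hr => by
    rw [← yzz, ← cj_zpowers, mem_cj]
    have := hc _ (conj_mem_of_mem_normalizer' yR hr)
    rwa [show y⁻¹ * r * y * f * (y⁻¹ * r * y)⁻¹ * f⁻¹ =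
      y⁻¹ * (r * (y * f * y⁻¹) * r⁻¹ * (y * f * y⁻¹)⁻¹) * y by group] at this⟩
  have ff : y * f * y⁻¹ * f⁻¹ ∉ V := fun m => by
    have yn : y ∈ normalizer ((V ⊓ C1 f : Subgroup G) : Set G) := mem_normalizer_fintype fun v hv => by
      have m1 := conj_mem_of_mem_normalizer hy hv.1
      refine ⟨m1, mem_C1.2 ?_⟩
      have e1 := mem_centralizer_iff.1 (l.le_cen m) _ m1
      have e2 : y * v * y⁻¹ * (y * f * y⁻¹) = y * f * y⁻¹ * (y * v * y⁻¹) := by
        rw [conj_mul, conj_mul, mem_C1.1 hv.2]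
      calc y * v * y⁻¹ * f = (y * f * y⁻¹ * f⁻¹)⁻¹ * (y * f * y⁻¹ * f⁻¹ * (y * v * y⁻¹)) * f := by group
        _ = (y * f * y⁻¹ * f⁻¹)⁻¹ * (y * v * y⁻¹ * (y * f * y⁻¹)) := by rw [← e1]; group
        _ = _ := by rw [e2]; group
    rcases t.irr l.ea l.card y3 hz1 yz inf_le_left ⟨hz, mem_C1_comm.1 hf.2.1⟩ yn with e | e
    · have := l3z_two (W := V) (U := V ⊓ C1 f) fun a ha b hb na nb => by
        have k : ∀ a ∈ V, a ∉ V ⊓ C1 f → f * a * f⁻¹ = z * a := fun a ha na =>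
          mul_inv_eq_iff_eq_mul.1 (((mem_zpowers_two z2).1 (hf.2.2 a ha)).resolve_left fun e =>
            na ⟨ha, mem_C1.2 (mul_inv_eq_iff_eq_mul.1 (mul_inv_eq_one.1 e)).symm⟩)
        refine mem_inf.2 ⟨mul_mem (inv_mem ha) hb, mem_C1.2 ?_⟩
        calc a⁻¹ * b * f = (z * a)⁻¹ * (z * b) * f := by group
          _ = _ := by rw [← k a ha na, ← k b hb nb]; group
      rw [e, l.card, cz] at this
      omega
    · exact fQ (le_C1.1 (e ▸ inf_le_right))
  have big : 16 < Nat.card (l3zZ RC) := by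
    by_contra lt
    have e1 := (V.subgroupOf (l3zZ RC)).index_mul_card
    rw [card_subgroupOf_of_le VZ, l.card] at e1
    have e2 : (V.subgroupOf (l3zZ RC)).index ≠ 1 := fun e => hfV
      ((index_eq_one.1 e ▸ mem_top _ : (⟨f, fZ⟩ : l3zZ RC) ∈ V.subgroupOf (l3zZ RC)))
    have e3 : (V.subgroupOf (l3zZ RC)).index ≠ 0 := index_ne_zero_of_finite
    have e4 : (V.subgroupOf (l3zZ RC)).index = 2 := by omega
    refine ff ((mul_mem_iff_of_index_two e4 (a := ⟨_, fZ'⟩) (b := (⟨f, fZ⟩ : l3zZ RC)⁻¹)).2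
      (iff_of_false (fun m => hfV ?_) fun m => hfV ?_))
    · have := conj_mem_of_mem_normalizer' hy (show y * f * y⁻¹ ∈ V from m)
      rwa [show y⁻¹ * (y * f * y⁻¹) * y = f by group] at this
    · exact V.inv_mem_iff.1 m
  have le32 : Nat.card (R1 V z) ≤ 32 := by have := l.card_R1 hz hz1; rwa [QV, l.card] at this
  have ZR : l3zZ RC ≤ R1 V z := fun u hu => hu.1
  have eZ : l3zZ RC = R1 V z := eq_of_le_of_card_ge ZR (by
    obtain ⟨k, e⟩ := card_dvd_of_le ZR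
    have : 0 < Nat.card (R1 V z) := Nat.card_pos
    rcases k with _ | _ | k
    · omega
    · omega
    · nlinarith)
  have mZ : ∀ u ∈ R1 V z, u ∈ l3zZ RC := fun u hu => eZ.ge hu
  refine ⟨QV, ?_, orderOf_eq_prime z2 hz1, VR hz, RC, fun u hu => (mem_zpowers_two z2).1 (mZ u hu).2.1,
    fun u hu r hr => ((mem_zpowers_two z2).1 ((mZ r hr).2.2 u hu)).imp (fun e => ?_) fun e => ?_,
    fun u hu cu => ?_, ?_⟩
  · have := Fact.mk Nat.prime_two
    obtain ⟨k, e⟩ := (l.two_R1 hz).exists_card_eq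
    rw [eZ] at big
    rw [e] at big le32 ⊢
    have h1 : 4 < k := (Nat.pow_lt_pow_iff_right (by norm_num : 1 < 2)).1 big
    have h2 : k ≤ 5 := (Nat.pow_le_pow_iff_right (by norm_num : 1 < 2)).1 le32
    rw [show k = 5 by omega]; rfl
  · exact mul_inv_eq_iff_eq_mul.1 (mul_inv_eq_one.1 e)
  · rw [← e]; group
  · have uV : u ∈ V := QV ▸ mem_centralizer_iff.2 fun v hv => (cu v (VR hv)).symm
    have yn : y ∈ normalizer ((V ⊓ centralizer (R1 V z : Set G) : Subgroup G) : Set G) :=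
      mem_normalizer_fintype fun v hv => ⟨conj_mem_of_mem_normalizer hy hv.1,
        conj_mem_of_mem_normalizer (normalizer_le_normalizer_centralizer _ yR) hv.2⟩
    rcases t.irr l.ea l.card y3 hz1 yz inf_le_left ⟨hz, le_C1.1 RC⟩ yn with e | e
    · exact (mem_zpowers_two z2).1 (e ▸ ⟨uV, mem_centralizer_iff.2 fun r hr => (cu r hr).symm⟩)
    · exact absurd (mem_centralizer_iff.2 fun v hv =>
        (mem_centralizer_iff.1 ((e.ge hv).2 : v ∈ centralizer (R1 V z : Set G)) f hf).symm) fQ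
  · by_contra n
    push Not at n
    exact fQ (mem_centralizer_iff.2 fun v hv => n v (VR hv) f hf)

end Cfsg.Agent.PTT
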