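import Cfsg.Agent.PTT.Defs
import Cfsg.Agent.PTT.L3z
import Cfsg.Agent.PTT.L3b
import Cfsg.Agent.PTT.Sol
import Cfsg.Agent.PTT.Ch

set_option autoImplicit false
set_option linter.unusedSectionVars false

namespace Cfsg.Agent.PTT

open Subgroup H69 H59 L3b

variable {G : Type*} [Group G] [Finite G] {p : ℕ}

variable {V : Subgroup G} {z : G}

namespace L3c

theorem ord (l : L3 V) (hz : z ∈ V) (hz1 : z ≠ 1) : orderOf z = 2 :=
  orderOf_eq_prime ((isElementaryAbelian_iff.1 l.ea).2 z hz) hz1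

theorem ndvd (c : Ctx0 7 G) (z2 : orderOf z = 2) : ¬ 7 ∣ Nat.card (C1 z) :=
  have := c.simple
  c.ord.not_dvd_C1 (by rintro rfl; simp at z2) (by rw [z2]; norm_num)

theorem sol (c : Ctx0 7 G) (t : Thin G) (z2 : orderOf z = 2) :
    (∀ T ≤ C1 z, IsPGroup 2 T → Nat.card T ≤ 2 * Nat.card (O2 (C1 z))) ∧
      ∀ y ∈ C1 z, orderOf y = 3 → ∀ T ≤ C1 z, IsPGroup 2 T → y ∈ normalizer (T : Set G) → T ≤ O2 (C1 z) :=
  (sol23 c.ord t (fun e => by
    have := mem_O2_C1 z2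
    rw [e, mem_bot] at this
    simp [this] at z2) (c.charP_C1 z2) (ndvd c z2)).2

theorem two_mul_le {A B : Subgroup G} (h : A < B) : 2 * Nat.card A ≤ Nat.card B := by
  obtain ⟨k, hk⟩ := card_dvd_of_le h.le
  have := H21.card_lt_of_lt h
  rw [hk] at this ⊢
  rw [mul_comm]
  exact Nat.mul_le_mul_left _ ((Nat.lt_mul_iff_one_lt_right (H21.card_pos' A)).1 this)

end L3c

open L3c

theorem L3.r_eq (l : L3 V) (c : Ctx0 7 G) (t : Thin G) (hz : z ∈ V) (hz1 : z ≠ 1) :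
    O2 (C1 z) = R1 V z := by
  have := c.simple
  have z2 := ord l hz hz1
  obtain ⟨s1, s2⟩ := sol c t z2
  obtain ⟨y, hyV, hyz, hy⟩ := l.exists_y c.ord hz hz1
  have RC : O2 (C1 z) ≤ C1 z := pCoreOf_le _
  have hR : IsPGroup 2 (O2 (C1 z)) := isPGroup_pCoreOf _
  have nR : C1 z ≤ normalizer (O2 (C1 z) : Set G) := le_normalizer_pCoreOf _
  generalize O2 (C1 z) = R at *
  have ER : R1 V z ≤ R := s2 y hyz hy _ (fun _ h => h.2.1) (l.two_R1 hz) (norm_R1 ⟨hyV, hyz⟩)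
  have ZV : zpowers z ≤ V := zpowers_le.2 hz
  have VE : V ≤ R1 V z := l.le_cen.trans (cen_le_R1 hz)
  have hRN : R ⊓ normalizer (V : Set G) = R1 V z := by
    refine le_antisymm (fun r hr => ⟨hr.2, RC hr.1, fun v hv => ?_⟩) (le_inf ER fun _ h => h.1)
    obtain ⟨u, hu, hu', k⟩ := exists_fix_mod (hR.to_le inf_le_left) (isPGroup_of_isElementaryAbelian l.ea)
      (lt_of_le_of_ne ZV fun e => by have := l.card; rw [← e, Nat.card_zpowers, z2] at this; omega)
      (R := R ⊓ normalizer (V : Set G)) inf_le_right (fun r hr => norm_Z (RC hr.1))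
      fun r hr => norm_Z (VE hr).2.1
    rcases t.irr l.ea l.card hy hz1 hyz (U := V ⊓ Cz z (R ⊓ normalizer (V : Set G))) inf_le_left
      ⟨hz, self_mem_C1 z, fun b hb => sym (by rw [cz (RC hb.1) (mem_zpowers z)]; simp)⟩
      (norm_inf hyV (norm_Cz hyz (norm_inf (nR hyz) (le_normalizer hyV)))) with e | e
    · exact absurd (e.le ⟨hu, (VE hu).2.1, fun b hb => sym (k b hb)⟩) hu'
    · exact sym ((e.ge hv).2.2 r hr)
  by_contra h0
  have lt : R1 V z < R := lt_of_le_of_ne ER (Ne.symm h0)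
  obtain ⟨r, r1, r2, r3⟩ := exists_norm_not_mem hR lt
  have r4 : r ∉ normalizer (V : Set G) := fun h => r3 (hRN.le ⟨r1, h⟩)
  obtain ⟨v, hv, hv'⟩ : ∃ v ∈ V, r * v * r⁻¹ ∉ V := by
    by_contra! h
    exact r4 (mem_normalizer_fintype h)
  obtain ⟨e1, e2, e3⟩ := l.esl c.ord t hz hz1 (conj_mem_of_mem_normalizer r2 (VE hv)) hv'
    (by rw [conj_pow, (isElementaryAbelian_iff.1 l.ea).2 v hv]; group) fun s hs => by
      have := (conj_mem_of_mem_normalizer' r2 hs).2.2 v hv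
      rw [← cz (RC r1) this] at this
      convert this using 1; group
  have c1 := r64 t hR RC l.ea l.card hz e1 e3 e2 hRN hy hyV (nR hyz) hyz
  have c2 := two_mul_le lt
  obtain ⟨T0, t1, t2, t3, -, t5⟩ := l.exists_T c.ord hz hz1
  rw [e1, l.card] at t5
  have hT := isPGroup_sup_of_le_normalizer t3 hR (t2.trans nR)
  have TC : T0 ⊔ R ≤ C1 z := sup_le t2 RC
  have c3 := two_mul_le (A := R) (B := T0 ⊔ R) (lt_of_le_of_ne le_sup_right fun e =>
    r4 (t1 ((H21.eq_of_le_of_card_le (le_sup_left.trans e.ge) (by omega)).ge r1)))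
  have c4 := s1 _ TC hT
  have ET : R1 V z ≤ T0 ⊔ R := ER.trans le_sup_right
  generalize T0 ⊔ R = T at *
  have NC : normalizer (T : Set G) ≤ C1 z := fun g hg => by
    have k : ∀ s ∈ T, g * z * g⁻¹ * s = s * (g * z * g⁻¹) := fun s hs => by
      have := mem_C1.1 (TC (conj_mem_of_mem_normalizer' hg hs))
      calc _ = g * (z * (g⁻¹ * s * g)) * g⁻¹ := by group
        _ = _ := by rw [← this]; group
    rcases e3.cen _ (VE (e1.le fun s hs => (k s (ET (VE hs))).symm)) fun s hs => k s (ET hs) with e | e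
    · exact absurd (by simpa using e) hz1
    · exact mem_C1.2 (mul_inv_eq_iff_eq_mul.1 e)
  obtain ⟨x, -, w, -, hx, hw, hxw⟩ := l.frob
  refine not128 c (sylOf_top_of hT fun U hU h1 h2 => (H21.eq_of_le_of_card_le h1 ?_).symm) (by omega) hx hw hxw
  have := s1 U (h2.trans NC) hU
  omega

theorem L3.c_le (l : L3 V) (c : Ctx0 7 G) (t : Thin G) (hz : z ∈ V) (hz1 : z ≠ 1) :
    C1 z ≤ normalizer (V : Set G) := by
  have := c.simple
  have z2 := ord l hz hz1
  obtain ⟨s1, -⟩ := sol c t z2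
  obtain ⟨y, hyV, hyz, hy⟩ := l.exists_y c.ord hz hz1
  have hR : IsPGroup 2 (O2 (C1 z)) := isPGroup_pCoreOf _
  have nR : C1 z ≤ normalizer (O2 (C1 z) : Set G) := le_normalizer_pCoreOf _
  rw [l.r_eq c t hz hz1] at s1 hR nR
  have QE := cen_le_R1 hz
  have VE : V ≤ R1 V z := l.le_cen.trans QE
  have c1 := l.card_R1 hz hz1
  have RC : R1 V z ≤ C1 z := fun _ h => h.2.1
  have n9 : ¬ 9 ∣ Nat.card (C1 z) := fun h9 => by
    let W : Subgroup G :=
      { carrier := {w | w ∈ R1 V z ⊓ Cz z (R1 V z) ∧ w ^ 2 ∈ zpowers z}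
        one_mem' := ⟨one_mem _, by simp⟩
        mul_mem' := fun {a b} ha hb => ⟨mul_mem ha.1 hb.1, by
          have := mul_mem (mul_mem ha.2 ((inv_mem ha.1).2.2 b hb.1.1)) hb.2
          rwa [show a ^ 2 * (a⁻¹ * b * a⁻¹⁻¹ * b⁻¹) * b ^ 2 = (a * b) ^ 2 by simp [pow_two, mul_assoc]] at this⟩
        inv_mem' := fun {a} ha => ⟨inv_mem ha.1, by rw [inv_pow]; exact inv_mem ha.2⟩ }
    have WR : W ≤ R1 V z := fun _ h => h.1.1
    have VW : V ≤ W := fun v hv => ⟨⟨VE hv, RC (VE hv), fun b hb => sym (hb.2.2 v hv)⟩, by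
      rw [(isElementaryAbelian_iff.1 l.ea).2 v hv]; exact one_mem _⟩
    have c2 := l.z0_card c.ord t hz hz1 (W := W ⊓ centralizer (V : Set G)) inf_le_right (fun w h => h.1.2)
      fun w h q hq => sym (h.1.1.2.2 q (QE hq))
    have c3 := (H21.card_mul_card_le W _).trans
      (Nat.mul_le_mul ((card_le_of_le (sup_le WR QE)).trans c1) c2)
    have c4 : Nat.card W ≤ 64 := Nat.le_of_mul_le_mul_right (c3.trans_eq (by ring)) (H21.card_pos' _)
    obtain ⟨h, h1, h2, h3⟩ := t.nine hR (fun e => hz1 (mem_bot.1 (e.le (VE hz)))) nR h9 hyz hy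
    have m := card_mod_nine h2 (U := W) (mem_normalizer_fintype fun w hw =>
      ⟨conj_mem_of_mem_normalizer (norm_inf (nR h1) (norm_Cz h1 (nR h1))) hw.1, by
        rw [conj_pow, cz h1 hw.2]; exact hw.2⟩)
    rw [h3] at m
    have c5 := t.cen y (V ⊓ C1 y) hy (isElementaryAbelian_of_le l.ea inf_le_left) inf_le_right
    have c6 := card_le_of_le (zpowers_le.2 (show z ∈ W ⊓ C1 y from ⟨VW hz, mem_C1_comm.1 hyz⟩))
    have c7 := H21.card_lt_of_lt (lt_of_le_of_ne (inf_le_left : W ⊓ C1 y ≤ W) fun e => by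
      rw [inf_eq_left.2 (VW.trans (inf_eq_left.1 e)), l.card] at c5; omega)
    obtain ⟨i, hi⟩ := IsPGroup.iff_card.1 (hR.to_le WR)
    obtain ⟨j, hj⟩ := IsPGroup.iff_card.1 (hR.to_le ((inf_le_left : W ⊓ C1 y ≤ W).trans WR))
    rw [Nat.card_zpowers, z2] at c6
    rw [hi] at c4
    rw [hj] at c6
    rw [hi, hj] at m c7
    have i6 : i ≤ 6 := (Nat.pow_le_pow_iff_right one_lt_two).1 c4
    have ji := (Nat.pow_lt_pow_iff_right one_lt_two).1 c7
    unfold Nat.ModEq at m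
    interval_cases i <;> interval_cases j <;> omega
  obtain ⟨T0, t1, t2, t3, -, t5⟩ := l.exists_T c.ord hz hz1
  have hT := isPGroup_sup_of_le_normalizer t3 hR (t2.trans nR)
  have c3 := two_mul_le (A := R1 V z) (B := T0 ⊔ R1 V z) (lt_of_le_of_ne le_sup_right fun e => by
    have := card_le_of_le (le_sup_left.trans e.ge)
    have := H21.card_pos' (centralizer (V : Set G))
    omega)
  obtain ⟨S, hS⟩ := exists_sylOf 2 (C1 z)
  have sT := hS.of_card_ge hT (sup_le t2 RC) ((s1 S hS.le hS.isPGroup).trans c3)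
  by_contra h0
  obtain ⟨r, hr, hd⟩ := Nat.exists_prime_and_dvd (mt relIndex_eq_one.1 h0)
  have e := H21.card_inf_mul_relIndex (normalizer (V : Set G)) (C1 z)
  have hd' : r ∣ Nat.card (C1 z) := e ▸ hd.mul_left _
  rcases c.ord.prime_dvd hr (hd'.trans (card_subgroup_dvd_card _)) with rfl | rfl | rfl
  · exact ndvd c z2 hd'
  · refine n9 (e ▸ mul_dvd_mul (a := 3) (c := 3) ?_ hd)
    rw [← hy]
    exact orderOf_dvd_natCard _ (show y ∈ _ from ⟨hyV, hyz⟩)
  · exact sT.not_dvd_relIndex (hd.trans (relIndex_dvd_of_le_left _ (sup_le t1 fun _ h => h.1)))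

end Cfsg.Agent.PTT
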