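import Cfsg.Agent.PTT.Defs
import Cfsg.Agent.PTT.Frob
import Cfsg.Agent.PTT.FilA
import Cfsg.Agent.PTT.LocX
import Cfsg.Agent.H6.LinOrd
import Cfsg.Agent.S0243
import Cfsg.Agent.S0280

set_option autoImplicit false
set_option linter.unusedSectionVars false

namespace Cfsg.Agent.PTT

open Subgroup H69 H59

variable {G : Type*} [Group G] [Finite G] {p : ℕ}

namespace LocC

theorem no_nine {Y F : Type*} [Group Y] [Finite Y] [Field F] [CharP F 3]
    (ρ : Y →* Matrix (Fin 3) (Fin 3) F) (hρ : ∀ g, ρ g = 1 → g = 1) (N : Subgroup Y) [N.Normal]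
    (a : Y ⧸ N) : orderOf a ≠ 9 := fun ha => by
  obtain ⟨y, rfl⟩ := QuotientGroup.mk_surjective a
  obtain ⟨k, m, hm, e⟩ := Nat.exists_eq_pow_mul_and_not_dvd (orderOf_pos y).ne' 3 (by norm_num)
  have h1 : (y ^ m) ^ 3 ^ k = 1 := by rw [← pow_mul, mul_comm, ← e, pow_orderOf_eq_one]
  have h2 := H6.LinOrd.pow_eq_one_char ρ hρ Nat.prime_three (b := 1) (by simp) h1
  have h3 : (y : Y ⧸ N) ^ (m * 3) = 1 := by
    rw [← QuotientGroup.mk_pow, pow_mul, ← pow_one 3, h2, QuotientGroup.mk_one]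
  have h4 := orderOf_dvd_of_pow_eq_one h3
  rw [ha] at h4
  omega

theorem charP3 (F : Type*) [Field F] [Fintype F] {k : ℕ} (h : Fintype.card F = 3 ^ k) : CharP F 3 :=
  have := Fact.mk Nat.prime_three
  charP_of_card_eq_prime_pow h

theorem abs_add {M : Type*} [AddCommGroup M] (h2 : ∀ m : M, m + m = 0) (A B : M →+ M)
    (a3 : ∀ m, A (A (A m)) = m) (b3 : ∀ m, B (B (B m)) = m)
    (fa : ∀ m, A m = m → m = 0) (fb : ∀ m, B m = m → m = 0) {w : M}
    (hw : A (B (A (B w))) = w) : A (B (A (B (A w)))) = A w := by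
  have sq : ∀ C : M →+ M, (∀ m, C (C (C m)) = m) → (∀ m, C m = m → m = 0) →
      ∀ m, C (C m) = m + C m := fun C c3 fc m => by
    have := fc (m + C m + C (C m)) (by simp only [map_add, c3]; abel)
    linear_combination (norm := abel1) this - h2 m - h2 (C m)
  have hA := sq A a3 fa
  have hB := sq B b3 fb
  have c1 : ∀ m, A (B (A (B m) + B (A m) + A m + B m + m)) = A (B (A (B m))) + m := fun m => by
    simp only [map_add, hA, hB]
    linear_combination (norm := abel1) h2 (A m) + h2 (A (B (A m))) + h2 (A (B m))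
  have c2 : A (B (A w)) + B (A (A w)) + A (A w) + B (A w) + A w =
      A (A (B w) + B (A w) + A w + B w + w) := by
    simp only [map_add, hA]
    linear_combination (norm := abel1) h2 (B (A w)) - h2 (A (B w))
  have c3 : A (B w) + B (A w) + A w + B w + w = 0 := by
    have h1 := c1 w
    rw [hw, h2] at h1
    have h3 := congrArg (fun m => B (B (A (A m)))) h1
    simpa only [a3, b3, map_zero] using h3
  have c4 := c1 (A w)
  rw [c2, c3, map_zero, map_zero, map_zero] at c4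
  linear_combination (norm := abel1) -c4 - h2 (A w)

theorem abs_mul {M : Type*} [CommGroup M] (h2 : ∀ m : M, m * m = 1) (A B : M →* M)
    (a3 : ∀ m, A (A (A m)) = m) (b3 : ∀ m, B (B (B m)) = m)
    (fa : ∀ m, A m = m → m = 1) (fb : ∀ m, B m = m → m = 1) {w : M}
    (hw : A (B (A (B w))) = w) : A (B (A (B (A w)))) = A w :=
  abs_add (M := Additive M) h2 (MonoidHom.toAdditive A) (MonoidHom.toAdditive B) a3 b3 fa fb
    (w := Additive.ofMul w) hw

theorem fix_conj {V : Subgroup G} (hV : IsElementaryAbelian 2 V) {a b : G}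
    (ha : a ∈ normalizer (V : Set G)) (hb : b ∈ normalizer (V : Set G)) (a3 : a ^ 3 = 1)
    (b3 : b ^ 3 = 1) (fa : V ⊓ C1 a = ⊥) (fb : V ⊓ C1 b = ⊥) {w : G} (hw : w ∈ V)
    (h : w ∈ C1 ((a * b) ^ 2)) : a * w * a⁻¹ ∈ C1 ((a * b) ^ 2) := by
  obtain ⟨hc, h2⟩ := isElementaryAbelian_iff.mp hV
  letI : CommGroup V := { (inferInstance : Group V) with
    mul_comm := fun x y => Subtype.ext (hc x x.2 y y.2) }
  let ρ : normalizer (V : Set G) → V →* V := fun g => (V.normalizerMonoidHom g).toMonoidHom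
  have hρ : ∀ g v, (ρ g v : G) = g * v * (g : G)⁻¹ := fun g v => rfl
  have c3 : ∀ g : normalizer (V : Set G), (g : G) ^ 3 = 1 → ∀ m, ρ g (ρ g (ρ g m)) = m :=
    fun g hg m => Subtype.ext (by
      simp only [hρ]
      calc _ = (g : G) ^ 3 * m * ((g : G) ^ 3)⁻¹ := by
            simp only [pow_succ, pow_zero, one_mul, mul_inv_rev, mul_assoc]
        _ = _ := by rw [hg]; group)
  have cf : ∀ g : normalizer (V : Set G), V ⊓ C1 (g : G) = ⊥ → ∀ m, ρ g m = m → m = 1 :=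
    fun g hg m hm => Subtype.ext (by
      have h1 := congrArg Subtype.val hm
      rw [hρ, mul_inv_eq_iff_eq_mul] at h1
      exact mem_bot.mp (hg ▸ mem_inf.mpr ⟨m.2, mem_C1'.mpr h1.symm⟩))
  have key := abs_mul (M := V) (fun m => Subtype.ext (by simpa [pow_two] using h2 m m.2))
    (ρ ⟨a, ha⟩) (ρ ⟨b, hb⟩) (c3 _ a3) (c3 _ b3) (cf _ fa) (cf _ fb) (w := ⟨w, hw⟩) (Subtype.ext (by
      simp only [hρ]
      calc _ = (a * b) ^ 2 * w * ((a * b) ^ 2)⁻¹ := by simp only [pow_succ]; group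
        _ = _ := by rw [← mem_C1'.mp h]; group))
  have h1 := congrArg Subtype.val key
  simp only [hρ] at h1
  rw [mem_C1']
  calc _ = a * (b * (a * (b * (a * w * a⁻¹) * b⁻¹) * a⁻¹) * b⁻¹) * a⁻¹ * (a * b) ^ 2 := by rw [h1]
    _ = _ := by simp only [pow_succ]; group

abbrev S17 := Matrix.SpecialLinearGroup (Fin 2) (ZMod 17)

/-- a matrix of determinant one -/
def mk2 (a b c d : ZMod 17) (h : a * d - b * c = 1 := by decide) : S17 :=
  ⟨!![a, b; c, d], by rw [Matrix.det_fin_two_of]; exact h⟩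

theorem ex_phi {Y : Type*} [Group Y] (h : IsoL2q 17 Y) :
    ∃ φ : S17 →* Y, ∀ M N, φ M = 1 → M * N = N * M := by
  obtain ⟨F, _, _, hF, ⟨e⟩⟩ := h
  let f := (ZMod.ringEquivOfPrime F (by norm_num) hF).toRingHom
  have hf : Function.Injective f := (ZMod.ringEquivOfPrime F (by norm_num) hF).injective
  refine ⟨e.symm.toMonoidHom.comp ((QuotientGroup.mk' _).comp (Matrix.SpecialLinearGroup.map f)),
    fun M N h1 => ?_⟩
  have h2 : Matrix.SpecialLinearGroup.map f M ∈ center _ :=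
    (QuotientGroup.eq_one_iff _).mp (e.symm.map_eq_one_iff.mp h1)
  have h3 := mem_center_iff.mp h2 (Matrix.SpecialLinearGroup.map f N)
  rw [← map_mul, ← map_mul] at h3
  exact (Subtype.ext (Matrix.map_injective hf (congrArg Subtype.val h3))).symm

theorem ex_ab {Y : Type*} [Group Y] (h : IsoL2q 17 Y) : ∃ a b : Y, orderOf a = 3 ∧ orderOf b = 3 ∧
    ((a * b) ^ 2) ^ 2 ^ 3 = 1 ∧
    orderOf ((a * b) ^ 2 * (a * (a * b) ^ 2 * a⁻¹) * (a⁻¹ * (a * b) ^ 2 * a)) = 3 := by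
  have := Fact.mk Nat.prime_three
  obtain ⟨φ, hφ⟩ := ex_phi h
  have o3 : ∀ M M2 N : S17, M * M = M2 → M2 * M = 1 → M * N ≠ N * M → orderOf (φ M) = 3 :=
    fun M M2 N h1 h2 h3 => orderOf_eq_prime
      (by rw [← map_pow, pow_succ, pow_two, h1, h2, map_one]) fun h4 => h3 (hφ M N h4)
  have hu : (mk2 0 16 1 16 * mk2 0 11 3 16) ^ 2 = mk2 6 9 7 5 := by
    rw [show mk2 0 16 1 16 * mk2 0 11 3 16 = mk2 14 1 14 12 by decide +kernel, pow_two]
    decide +kernel
  have hi : (mk2 0 16 1 16)⁻¹ = mk2 16 1 16 0 := inv_eq_of_mul_eq_one_right (by decide +kernel)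
  refine ⟨φ (mk2 0 16 1 16), φ (mk2 0 11 3 16),
    o3 _ (mk2 16 1 16 0) (mk2 0 11 3 16) (by decide +kernel) (by decide +kernel) (by decide +kernel),
    o3 _ (mk2 16 6 14 0) (mk2 0 16 1 16) (by decide +kernel) (by decide +kernel) (by decide +kernel),
    ?_, ?_⟩
  · rw [← map_mul, ← map_pow, hu, ← map_pow, show 2 ^ 3 = 2 * 2 * 2 by norm_num, pow_mul, pow_mul,
      pow_two (mk2 6 9 7 5), show mk2 6 9 7 5 * mk2 6 9 7 5 = mk2 14 14 9 3 by decide +kernel,
      pow_two (mk2 14 14 9 3), show mk2 14 14 9 3 * mk2 14 14 9 3 = mk2 16 0 0 16 by decide +kernel,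
      pow_two, show mk2 16 0 0 16 * mk2 16 0 0 16 = 1 by decide +kernel, map_one]
  · simp only [← map_mul, ← map_pow, ← map_inv]
    rw [hu, hi, show mk2 0 16 1 16 * mk2 6 9 7 5 * mk2 16 1 16 0 = mk2 12 10 14 16 by decide +kernel,
      show mk2 16 1 16 0 * mk2 6 9 7 5 * mk2 0 16 1 16 = mk2 13 3 8 15 by decide +kernel,
      show mk2 6 9 7 5 * mk2 12 10 14 16 * mk2 13 3 8 15 = mk2 7 16 6 9 by decide +kernel]
    exact o3 _ (mk2 9 1 11 7) (mk2 0 16 1 16) (by decide +kernel) (by decide +kernel)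
      (by decide +kernel)

end LocC

open LocC

theorem no33 (t : Thin G) {H : Subgroup G} (hO : O2 H ≠ ⊥) (L : Subgroup (H ⧸ pCore 2 H)) :
    ¬ NG.IsoU33 L ∧ ¬ NG.IsoL33 L := by
  constructor
  · rintro ⟨F, _, _, hF, ⟨e⟩⟩
    have := charP3 F (k := 2) hF
    have h1 := S0280.result (F := F) (q := 3) hF 3 (by norm_num)
    rw [← Nat.card_congr e.toEquiv] at h1
    simp [Finset.prod_range_succ] at h1
    obtain ⟨a, ha, ho⟩ := t.nine_q hO (L := L) (by omega)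
    refine no_nine ((slToMat 3 F).comp (SU 3 F 3).subtype)
      (fun g hg => Subtype.ext (Subtype.ext hg)) _ (e ⟨a, ha⟩) ?_
    rw [e.orderOf_eq, ← orderOf_coe, ho]
  · rintro ⟨F, _, _, hF, ⟨e⟩⟩
    have := charP3 F (k := 1) hF
    have h1 := S0243.result (F := F) (q := 3) hF 3 (by norm_num)
    rw [← Nat.card_congr e.toEquiv] at h1
    simp [Fin.prod_univ_three] at h1
    obtain ⟨a, ha, ho⟩ := t.nine_q hO (L := L) (by omega)
    refine no_nine (slToMat 3 F) (fun g hg => Subtype.ext hg) _ (e ⟨a, ha⟩) ?_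
    rw [e.orderOf_eq, ← orderOf_coe, ho]

theorem no17 (h : Ord p G) [IsSimpleGroup G] (t : Thin G) {H : Subgroup G} (hO : O2 H ≠ ⊥)
    (L : Subgroup (H ⧸ pCore 2 H)) : ¬ IsoL2q 17 L := by
  intro hL
  have := Fact.mk Nat.prime_two
  have hc := hL.card.2.2 rfl
  have hd : 2448 ∣ Nat.card H := hc ▸ L.card_subgroup_dvd_card.trans (card_quotient_dvd_card _)
  have h17 : 17 ∣ Nat.card H := Dvd.dvd.trans (by norm_num) hd
  have hp : p ∣ Nat.card H := by
    rcases h.prime_dvd (by norm_num) (h17.trans H.card_subgroup_dvd_card) with h1 | h1 | h1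
    · exact h1 ▸ h17
    · omega
    · omega
  have fp : ∀ y : H, orderOf y = 3 → OZ (O2 H) ⊓ C1 (y : G) = ⊥ := fun y hy =>
    le_bot_iff.mp ((fpf3 h t hO (Dvd.dvd.trans (by norm_num) hd) hp y.2
      ((orderOf_coe y).trans hy)) ▸ inf_le_inf_right _ ((omegaOne_le _).trans inf_le_left))
  have lift : ∀ a : L, orderOf a = 3 → ∃ k : H, (k : H ⧸ pCore 2 H) = a ∧ orderOf k = 3 :=
    fun a ha => by
      have ha' : orderOf (a : H ⧸ pCore 2 H) = 3 := (orderOf_coe a).trans ha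
      obtain ⟨k, h1, h2⟩ := exists_lift (a : H ⧸ pCore 2 H) (by rw [ha']; decide)
      exact ⟨k, h1, h2.trans ha'⟩
  obtain ⟨a', b', ha', hb', hu, hK⟩ := ex_ab hL
  obtain ⟨a, ea, ha⟩ := lift _ ha'
  obtain ⟨b, eb, hb⟩ := lift _ hb'
  obtain ⟨k, ek, hk⟩ := lift _ hK
  have hV : IsElementaryAbelian 2 (OZ (O2 H)) := isElementaryAbelian_omegaOne zOf_comm
  have hN : H ≤ normalizer (OZ (O2 H) : Set G) := (le_normalizer_pCoreOf H).trans
    ((normalizer_le_normalizer_zOf _).trans (normalizer_le_normalizer_omegaOne _))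
  have h3 : ∀ y : H, orderOf y = 3 → (y : G) ^ 3 = 1 := fun y hy => by
    rw [← hy, ← orderOf_coe]; exact pow_orderOf_eq_one _
  have hu2 : IsPGroup 2 (zpowers (((a : G) * b) ^ 2)) := by
    have h1 : ((((a * b) ^ 2) ^ 2 ^ 3 : H) : G) ∈ O2 H := by
      rw [← mk_eq_one]
      simp only [QuotientGroup.mk_pow, QuotientGroup.mk_mul, ea, eb]
      exact congrArg Subtype.val hu
    obtain ⟨j, hj⟩ := isPGroup_iff_mem.mp (isPGroup_pCoreOf H) _ h1
    have h2 : (((a : G) * b) ^ 2) ^ 2 ^ (3 + j) = 1 := by rw [pow_add, pow_mul]; exact hj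
    obtain ⟨i, -, hi⟩ := (Nat.dvd_prime_pow Nat.prime_two).mp (orderOf_dvd_of_pow_eq_one h2)
    exact isPGroup_zpowers_of_orderOf hi
  have hw := inf_centralizer_ne_bot hu2 (isPGroup_of_isElementaryAbelian hV)
    (zpowers_le.mpr (hN (pow_mem (mul_mem a.2 b.2) 2)))
    (omegaOne_zOf_ne_bot (isPGroup_pCoreOf H) hO)
  rw [cen_zp] at hw
  obtain ⟨⟨w, hw1, hw2⟩, hw0⟩ := ne_bot_iff_exists_ne_one.mp hw
  have fx := fun {v : G} => fix_conj hV (hN a.2) (hN b.2) (h3 a ha) (h3 b hb) (fp a ha) (fp b hb) (w := v)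
  have w1 := fx hw1 hw2
  have w2 := fx (conj_mem_of_mem_normalizer (hN a.2) hw1) w1
  have ho : ((((a * b) ^ 2 * (a * (a * b) ^ 2 * a⁻¹) * (a⁻¹ * (a * b) ^ 2 * a))⁻¹ * k : H) : G) ∈
      O2 H := by
    rw [← mk_eq_one]
    simp only [QuotientGroup.mk_pow, QuotientGroup.mk_mul, QuotientGroup.mk_inv, ea, eb, ek]
    exact inv_mul_cancel _
  have ai : (a : G)⁻¹ = a * a := by
    rw [inv_eq_iff_mul_eq_one, ← h3 a ha, pow_succ, pow_two, mul_assoc]
  set u := ((a : G) * b) ^ 2 with hu'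
  have e1 : u ∈ C1 w := mem_C1'.mpr (mem_C1'.mp hw2).symm
  have e2 : a * u * (a : G)⁻¹ ∈ C1 w := by
    have h1 := mem_C1'.mp w2
    rw [show (a : G) * (a * w * (a : G)⁻¹) * (a : G)⁻¹ = (a * a) * w * (a * a : G)⁻¹ by group, ← ai] at h1
    rw [mem_C1']
    calc _ = a * (u * ((a : G)⁻¹ * w * (a : G)⁻¹⁻¹)) * (a : G)⁻¹ := by group
      _ = _ := by rw [← h1]; group
  have e3 : (a : G)⁻¹ * u * a ∈ C1 w := by
    rw [mem_C1']
    calc _ = (a : G)⁻¹ * (u * (a * w * (a : G)⁻¹)) * a := by group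
      _ = _ := by rw [← mem_C1'.mp w1]; group
  have e4 := mem_C1'.mpr ((mem_zOf.mp (omegaOne_le _ hw1)).2 _ ho)
  have e5 : (k : G) ∈ C1 w := by
    have := mul_mem (mul_mem (mul_mem e1 e2) e3) e4
    simpa [hu', mul_assoc] using this
  have e6 : w ∈ OZ (O2 H) ⊓ C1 (k : G) := ⟨hw1, mem_C1'.mpr (mem_C1'.mp e5).symm⟩
  rw [fp k hk] at e6
  exact hw0 (Subtype.ext e6)

end Cfsg.Agent.PTT
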