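import Cfsg.Agent.PTT.Defs
import Cfsg.Agent.PTT.Frob
import Cfsg.Agent.PTT.FilA
import Cfsg.Agent.H59.RealB
import Cfsg.Agent.H24.He.L3Split
import Cfsg.Agent.S1003

/-! Project PTT: a 2-local subgroup with `H / O₂(H)` of socle `L₂(7)`. -/

set_option autoImplicit false
set_option linter.unusedSectionVars false

namespace Cfsg.Agent.PTT

open Subgroup H69 H59

variable {G : Type*} [Group G] [Finite G] {p : ℕ}

namespace LocD

theorem card_aut8 {V : Type*} [Group V] [Finite V] (sq : ∀ a : V, a * a = 1) (h : Nat.card V = 8) :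
    Nat.card (MulAut V) ≤ 168 := by
  obtain ⟨-, τ, -, -, h3, -⟩ := H24.L32.exists_coord8 V sq h
  exact (Nat.card_le_card_of_injective τ h3).trans (by rw [Nat.card_eq_fintype_card]; decide +kernel)

theorem cj_pow {x y : G} {k : ℕ} (e : y * x * y⁻¹ = x ^ k) (n : ℕ) :
    y ^ n * x * (y ^ n)⁻¹ = x ^ k ^ n := by
  induction n with
  | zero => simp
  | succ n ih =>
    rw [pow_succ' k, pow_mul, ← e, conj_pow, ← ih]
    group

theorem seven [IsSimpleGroup G] (h : Nat.card G = 168) :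
    ∃ x : G, orderOf x = 7 ∧ (IsConj x (x ^ 2) ∨ ∃ w : G, orderOf w = 21) := by
  classical
  have : Fact (Nat.Prime 7) := ⟨by norm_num⟩
  have : Fact (Nat.Prime 3) := ⟨Nat.prime_three⟩
  obtain ⟨x, hx⟩ := exists_prime_orderOf_dvd_card' (G := G) 7 (by rw [h]; norm_num)
  have i := (zpowers x).card_mul_index
  rw [Nat.card_zpowers, hx, h] at i
  let P : Sylow 7 G := (isPGroup_zpowers_of_orderOf (k := 1) hx).toSylow (by omega)
  have j := (normalizer (zpowers x : Set G)).card_mul_index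
  rw [show (normalizer (zpowers x : Set G)).index = 8 from
    P.card_eq_index_normalizer.symm.trans (S1003.result h).2.2, h] at j
  obtain ⟨y, hy⟩ := exists_prime_orderOf_dvd_card' (G := normalizer (zpowers x : Set G)) 3 (by omega)
  rw [← orderOf_coe] at hy
  obtain ⟨k, hk, e⟩ := Finset.mem_image.1 ((mem_zpowers_iff_mem_range_orderOf).1
    (conj_mem_of_mem_normalizer y.2 (mem_zpowers x)))
  rw [hx, Finset.mem_range] at hk
  have e3 := cj_pow e.symm 3
  rw [← hy, pow_orderOf_eq_one, one_mul, inv_one, mul_one, hy, ← pow_one x, ← pow_mul, one_mul,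
    pow_eq_pow_iff_modEq, hx] at e3
  refine ⟨x, hx, ?_⟩
  obtain rfl | rfl | rfl : k = 1 ∨ k = 2 ∨ k = 4 := by
    interval_cases k <;> simp_all [Nat.ModEq]
  · rw [pow_one, eq_comm, mul_inv_eq_iff_eq_mul] at e
    exact .inr ⟨y * x, by
      rw [Commute.orderOf_mul_eq_mul_orderOf_of_coprime e (by rw [hx, hy]; norm_num), hx, hy]⟩
  · exact .inl (isConj_iff.2 ⟨y, e.symm⟩)
  · exact .inl (isConj_iff.2 ⟨y ^ 2, (cj_pow e.symm 2).trans (pow_eq_pow_iff_modEq.2 (by rw [hx]; rfl))⟩)

end LocD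

open LocD in
theorem t3_of (h : Ord p G) [IsSimpleGroup G] (t : Thin G) {H : Subgroup G} (hO : O2 H ≠ ⊥)
    {L : Subgroup (H ⧸ pCore 2 H)} (n : NS H L) (h168 : Nat.card L = 168) : p = 7 ∧ T3 H := by
  have : Fact (Nat.Prime 2) := ⟨Nat.prime_two⟩
  have : Fact (Nat.Prime 7) := ⟨by norm_num⟩
  have := n.simple
  have := n.normal
  obtain rfl : p = 7 := by
    have := h.prime_dvd (r := 7) (by norm_num) ((show 7 ∣ Nat.card L by rw [h168]; norm_num).trans
      (L.card_subgroup_dvd_card.trans ((card_quotient_dvd_card _).trans H.card_subgroup_dvd_card)))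
    omega
  obtain ⟨m, hm⟩ := IsPGroup.iff_card.1 (isPGroup_pCore 2 H)
  have co : ∀ k : ℕ, Odd k → k.Coprime (Nat.card (pCore 2 H)) := fun k hk =>
    hm ▸ (Nat.coprime_two_right.2 hk).pow_right m
  obtain ⟨x0, hx0, hc⟩ := seven h168
  rw [← orderOf_coe] at hx0
  obtain ⟨x, ex, hx⟩ := RC.lift_elt (pCore 2 H) x0 (co _ (by rw [hx0]; decide))
  rw [hx0] at hx
  have hx' := (orderOf_coe x).trans hx
  obtain ⟨y, hy, y3, xy⟩ : ∃ y ∈ H, orderOf y = 3 ∧ y * x * y⁻¹ = x ^ 2 := by
    rcases hc with hc | ⟨w, hw⟩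
    · obtain ⟨g, hg⟩ := isConj_iff.1 hc
      obtain ⟨g', eg⟩ := QuotientGroup.mk_surjective (g : H ⧸ pCore 2 H)
      obtain ⟨g, hg⟩ := isConj_iff.1 ((isConj_iff.2 ⟨g', rfl⟩).trans (RC.conj_of_coset (pCore 2 H)
        (x := g' * x * g'⁻¹) (y := x ^ 2) (co _ (by rw [H8.orderOf_conj', hx]; decide))
        (co _ (by rw [orderOf_pow, hx]; decide)) (by simpa [ex, eg] using congrArg Subtype.val hg)))
      have e : (g : G) * x * (g : G)⁻¹ = x ^ 2 := congrArg Subtype.val hg
      have e7 := (cj_pow e 7).trans (pow_eq_pow_iff_modEq.2 (show 2 ^ 7 ≡ 2 [MOD _] by rw [hx']; rfl))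
      have e3 := (cj_pow e 3).trans (pow_eq_pow_iff_modEq.2 (show 2 ^ 3 ≡ 1 [MOD _] by rw [hx']; rfl))
      rw [pow_one, mul_inv_eq_iff_eq_mul] at e3
      have := orderOf_dvd_iff_pow_eq_one.1 ((orderOf_dvd_of_mem_zpowers (h.sc hx' e3)).trans hx'.dvd)
      have : Fact (Nat.Prime 3) := ⟨Nat.prime_three⟩
      refine ⟨g ^ 7, pow_mem g.2 7, orderOf_eq_prime (by rwa [← pow_mul, mul_comm, pow_mul]) fun k => ?_, e7⟩
      rw [k, one_mul, inv_one, mul_one, ← pow_one (x : G), ← pow_mul, pow_eq_pow_iff_modEq, hx'] at e7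
      exact absurd e7 (by decide)
    · rw [← orderOf_coe] at hw
      obtain ⟨w, -, hw'⟩ := RC.lift_elt (pCore 2 H) w (co _ (by rw [hw]; decide))
      rw [hw, ← orderOf_coe] at hw'
      have := h.fpf (x := (w : G) ^ 3) (g := w ^ 7) (by rw [orderOf_pow, hw']; rfl)
        (Commute.pow_pow_self _ _ _) (by rw [orderOf_pow, hw']; decide)
      rw [← orderOf_dvd_iff_pow_eq_one, hw'] at this
      omega
  have HV : H ≤ normalizer (OZ (O2 H) : Set G) := (le_normalizer_pCoreOf H).trans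
    ((normalizer_le_normalizer_zOf _).trans (normalizer_le_normalizer_omegaOne _))
  have OV : O2 H ≤ centralizer (OZ (O2 H) : Set G) :=
    (le_centralizer_zOf _).trans (centralizer_le (omegaOne_le _))
  have V1 : OZ (O2 H) ≠ ⊥ := omegaOne_zOf_ne_bot (isPGroup_pCoreOf H) hO
  have ea : IsElementaryAbelian 2 (OZ (O2 H)) := isElementaryAbelian_omegaOne zOf_comm
  suffices L3 (OZ (O2 H)) ∧ Nat.card (H ⧸ pCore 2 H) = 168 from ⟨rfl, this.1, by
    rw [card_eq_card_quotient_mul_card_subgroup (pCore 2 H), this.2, O2, pCoreOf,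
      card_map_of_injective H.subtype_injective]⟩
  generalize OZ (O2 H) = V at HV OV V1 ea
  have c8 : Nat.card V = 8 := by
    have := frob8 h t hx' y3 xy ea (HV x.2) (HV hy)
    have := h.card_mod hx' (isPGroup_of_isElementaryAbelian ea) (HV x.2)
    have := mt card_eq_one.1 V1
    omega
  have n7 : ∀ g ∈ centralizer (V : Set G), orderOf g ≠ 7 := fun g hg e => V1 (eq_bot_iff.2 fun v hv =>
    h.fpf e (hg v hv) fun k => absurd (k.trans (orderOf_dvd_of_pow_eq_one (ea.2 v hv))) (by decide))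
  let ρ := V.normalizerMonoidHom
  have kρ : ρ.ker = (centralizer (V : Set G)).subgroupOf _ := normalizerMonoidHom_ker V
  let σ : H ⧸ pCore 2 H →* MulAut V := QuotientGroup.lift _ (ρ.comp (inclusion HV)) fun g hg =>
    kρ.ge (OV ((mem_pCoreOf g).2 hg))
  have iσ : Function.Injective σ := by
    rw [← MonoidHom.ker_eq_bot_iff, eq_bot_iff, ← n.cen, ← commutator_eq_bot_iff_le_centralizer,
      eq_bot_iff]
    refine (commutator_le_inf _ _).trans (le_of_eq ?_)
    rcases (inferInstance : (σ.ker.subgroupOf L).Normal).eq_bot_or_eq_top with e | e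
    · exact disjoint_iff.1 (subgroupOf_eq_bot.1 e)
    · have : (x0 : H ⧸ pCore 2 H) ∈ σ.ker := e.ge (mem_top x0)
      rw [← ex] at this
      exact absurd hx' (n7 _ (kρ.le this))
  have a1 := card_aut8 (V := V) (fun a => Subtype.ext ((pow_two _).symm.trans (ea.2 a a.2))) c8
  have a2 := Nat.card_le_card_of_injective σ iσ
  have a3 := L.card_le_card_group
  have bσ := iσ.bijective_of_nat_card_le (by omega)
  have sρ : Function.Surjective ρ := fun a => by
    obtain ⟨g, rfl⟩ := bσ.2 a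
    obtain ⟨g, rfl⟩ := QuotientGroup.mk_surjective g
    exact ⟨_, rfl⟩
  have eL : L = ⊤ := eq_top_of_le_card _ (by omega)
  have : IsSimpleGroup (MulAut V) :=
    ((MulEquiv.subgroupCongr eL).trans (topEquiv.trans (MulEquiv.ofBijective σ bσ))).symm.isSimpleGroup
  have cA : Nat.card (MulAut V) = 168 := by omega
  have cN := ρ.ker.card_mul_index
  rw [index_ker, MonoidHom.range_eq_top.2 sρ, card_top, cA, kρ,
    card_subgroupOf_of_le (centralizer_le_normalizer _)] at cN
  obtain ⟨k, hk⟩ : ∃ k, Nat.card (centralizer (V : Set G)) = 2 ^ k :=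
    ⟨_, Nat.eq_prime_pow_of_unique_prime_dvd Nat.card_pos.ne' fun {r} hr hd => by
      have := Fact.mk hr
      obtain ⟨g, hg⟩ := exists_prime_orderOf_dvd_card' r hd
      rw [← orderOf_coe] at hg
      rcases h.prime_dvd hr (hd.trans (card_subgroup_dvd_card _)) with rfl | rfl | rfl
      · exact absurd hg (n7 g g.2)
      · have := t.cen g V hg ea fun v hv => mem_C1'.2 (g.2 v hv)
        omega
      · rfl⟩
  refine ⟨⟨ea, c8, ⟨x, HV x.2, y, HV hy, hx', y3, xy⟩, ?_, fun K hK hn => ?_⟩, by omega⟩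
  · obtain ⟨T, hT⟩ := Sylow.exists_subgroup_card_pow_prime (G := MulAut V) 2 (n := 3) (by rw [cA]; norm_num)
    have i := T.card_mul_index
    have j := (T.comap ρ).card_mul_index
    rw [index_comap_of_surjective _ sρ] at j
    have e : Nat.card ((T.comap ρ).map (normalizer (V : Set G)).subtype) =
        8 * Nat.card (centralizer (V : Set G)) := by
      rw [card_map_of_injective (subtype_injective _)]
      rw [hT, cA] at i
      rw [show T.index = 21 by omega] at j
      omega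
    exact ⟨_, map_subtype_le _, IsPGroup.of_card (n := k + 3) (by rw [e, hk]; ring), fun g hg =>
      ⟨⟨g, centralizer_le_normalizer _ hg⟩, ker_le_comap ρ T (kρ.ge hg), rfl⟩, e⟩
  · rcases (((normal_subgroupOf_iff_le_normalizer hK).2 hn).map ρ sρ).eq_bot_or_eq_top with e | e
    · exact .inl fun g hg => kρ.le ((Subgroup.map_eq_bot_iff _).1 e (show (⟨g, hK hg⟩ : normalizer _) ∈ _ from hg))
    · have := card_map_dvd (K.subgroupOf (normalizer (V : Set G))) ρ
      rw [e, card_top, cA, card_subgroupOf_of_le hK] at this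
      obtain ⟨g, hg⟩ := exists_prime_orderOf_dvd_card' (G := K) 7 (Dvd.dvd.trans (by norm_num) this)
      exact .inr ⟨g, g.2, (orderOf_coe g).trans hg⟩

end Cfsg.Agent.PTT
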